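import Groth.Agent.Lib.PBC50.Extend

/-!
# Germ functions of an inverse image as germ functions of the sheaf
-/

set_option autoImplicit false

universe u

open CategoryTheory CategoryTheory.Limits AlgebraicGeometry Opposite

set_option backward.isDefEq.respectTransparency false

noncomputable section

namespace Groth.Agent.Lib.PBC50.ToF

open Groth.Agent.Lib.EtSite Groth.Agent.Lib.EtSite.Basic Groth.Agent.Lib.EtSite.PushStalk
  Groth.Agent.Lib.EtSite.HensClosed
open Groth.Agent.Lib.EtGerm Groth.Agent.Lib.EtGerm.Basic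
open Groth.Agent.Lib.EtSubmersive.Basic (germUnit bijective_germUnit germUnit_germ unitApp)

variable {X P Q : Scheme.{u}} (F : EtCoh.Ab X) (q : P ⟶ X) (ρ : Q ⟶ P)

/-- The canonical isomorphism of stalks. -/
def stkIso {Ω : Type u} [Field Ω] [IsSepClosed Ω] {η : Spec (CommRingCat.of Ω) ⟶ X}
    {ζ : Spec (CommRingCat.of Ω) ⟶ P} (h : ζ ≫ q = η) : Stk F η ≃+ Stk ((EtCoh.pull q).obj F) ζ :=
  AddEquiv.ofBijective (germUnit q F h).hom (bijective_germUnit q F h)

/-- The inverse of `Extend.ofF`. -/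
def toF (σ : Germs ((EtCoh.pull q).obj F) (Over.mk ρ)) : Germs F (Over.mk (ρ ≫ q)) :=
  fun x => (stkIso F q ((Category.assoc _ _ _).trans x.comm : (x.ξ ≫ ρ) ≫ q = x.η)).symm
    (σ ⟨x.Ω, x.ξ ≫ ρ, x.ξ, rfl⟩)

/-- Sections of the inverse image locally come from the sheaf. -/
theorem exists_lift (W : P.Etale) (a : EtCoh.sect ((EtCoh.pull q).obj F) W) (w : W.left) :
    ∃ (U : X.Etale) (s : EtCoh.sect F U) (Z : P.Etale) (g₁ : Z ⟶ W) (g₂ : Z ⟶ (EtCoh.bc q).obj U),
      ((EtCoh.pull q).obj F).obj.map g₁.op a =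
        ((EtCoh.pull q).obj F).obj.map g₂.op (unitAt q F U s) ∧ w ∈ Set.range g₁.left.base := by
  let G := (EtCoh.pull q).obj F
  obtain ⟨p, hp⟩ := exists_fiber (Push.algPoint P (W.hom.base w)) W w
    (Push.algPoint_apply P (W.hom.base w) default).symm
  obtain ⟨y, hy⟩ := (bijective_germUnit q F
    (rfl : Push.algPoint P (W.hom.base w) ≫ q = _)).2 (germ G _ W p a)
  obtain ⟨U, r, s, rfl⟩ := exists_germ F y
  let B := (EtCoh.bc q).obj U
  let pB := liftPt q (rfl : Push.algPoint P (W.hom.base w) ≫ q = _) U r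
  let pZ : (Scheme.pointSmallEtale (Push.algPoint P (W.hom.base w))).fiber.obj (prodEt W B) :=
    mkFiber _ (prodEt W B) (pullback.lift (f := W.hom) (g := B.hom) (fiberHom p) (fiberHom pB)
      ((fiberHom_comp p).trans (fiberHom_comp pB).symm)) (by
        refine (Category.assoc _ _ _).symm.trans ((congrArg (· ≫ W.hom) (pullback.lift_fst _ _ _)).trans ?_)
        exact fiberHom_comp p)
  have e₁ : (Scheme.pointSmallEtale (Push.algPoint P (W.hom.base w))).fiber.map (prodFst W B) pZ = p :=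
    Over.OverMorphism.ext (pullback.lift_fst _ _ _)
  have e₂ : (Scheme.pointSmallEtale (Push.algPoint P (W.hom.base w))).fiber.map (prodSnd W B) pZ = pB :=
    Over.OverMorphism.ext (pullback.lift_snd _ _ _)
  have h := (germUnit_germ q F rfl U r s).symm.trans hy
  rw [← e₁] at h
  change germ G _ B pB (unitAt q F U s) = germ G _ W _ a at h
  rw [← e₂, ← germ_map, ← germ_map] at h
  obtain ⟨Z, g, hg, z, hz⟩ := (germ_eq_iff G _ _ pZ _ _).1 h.symm
  refine ⟨U, s, Z, g ≫ prodFst W B, g ≫ prodSnd W B, ?_, z, ?_⟩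
  · simp only [op_comp, Functor.map_comp, ConcreteCategory.comp_apply]
    exact hg
  · refine (congrArg (prodFst W B).left.base hz).trans ?_
    refine (fiberPt_map (prodFst W B) pZ).symm.trans ?_
    rw [e₁, hp]

theorem isLocRep_toF {σ : Germs ((EtCoh.pull q).obj F) (Over.mk ρ)}
    (hσ : IsLocRep ((EtCoh.pull q).obj F) σ) : IsLocRep F (toF F q ρ σ) := by
  intro t
  obtain ⟨V, c, hc, W, b, hb, a, ⟨v, hv⟩, hrep⟩ := hσ t
  obtain ⟨U, s, Z, g₁, g₂, hg, z, hz⟩ := exists_lift F q W a (b.base v)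
  obtain ⟨u, hu, -⟩ := Scheme.Pullback.exists_preimage_pullback (f := b) (g := g₁.left) v z hz.symm
  have : Etale g₁.left := Fiber.etale_left g₁
  let c' : pullback b g₁.left ⟶ Q := pullback.fst b g₁.left ≫ c
  have : Etale c := hc
  let b' : pullback b g₁.left ⟶ U.left :=
    pullback.snd b g₁.left ≫ g₂.left ≫ pullback.fst U.hom q
  have hZ : pullback.snd b g₁.left ≫ Z.hom = c' ≫ ρ := by
    refine (congrArg (pullback.snd b g₁.left ≫ ·) (Over.w g₁.hom)).symm.trans ?_
    refine (Category.assoc _ _ _).symm.trans ((congrArg (· ≫ W.hom) pullback.condition.symm).trans ?_)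
    rw [Category.assoc, hb, Category.assoc]
    rfl
  have hb' : b' ≫ U.hom = c' ≫ (Over.mk (ρ ≫ q)).hom := by
    have e : g₂.left ≫ pullback.snd U.hom q = Z.hom := Over.w g₂.hom
    change (pullback.snd b g₁.left ≫ g₂.left ≫ pullback.fst U.hom q) ≫ U.hom = c' ≫ ρ ≫ q
    rw [← Category.assoc c', ← hZ, ← e]
    simp only [Category.assoc, pullback.condition]
  refine ⟨pullback b g₁.left, c', inferInstanceAs (Etale (_ ≫ _)), U, b', hb', s,
    ⟨u, (congrArg c.base hu).trans hv⟩, fun Ω _ _ η ξ h l hl => ?_⟩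
  change (stkIso F q _).symm (σ ⟨Ω, ξ ≫ ρ, ξ, rfl⟩) = _
  rw [AddEquiv.symm_apply_eq]
  refine Eq.trans ?_ (germUnit_germ q F _ U _ s).symm
  rw [hrep Ω (ξ ≫ ρ) ξ rfl (l ≫ pullback.fst b g₁.left) ((Category.assoc _ _ _).trans hl)]
  let pz : (Scheme.pointSmallEtale (ξ ≫ ρ)).fiber.obj Z :=
    mkFiber _ Z (l ≫ pullback.snd b g₁.left) (by rw [Category.assoc, hZ, ← Category.assoc, hl])
  have e₁ : (Scheme.pointSmallEtale (ξ ≫ ρ)).fiber.map g₁ pz =
      ptOf hb rfl (l ≫ pullback.fst b g₁.left) ((Category.assoc _ _ _).trans hl) := by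
    refine Over.OverMorphism.ext ?_
    refine (Category.assoc _ _ _).trans ?_
    refine ((Category.assoc _ _ _).trans ?_).symm
    exact congrArg (l ≫ ·) pullback.condition
  rw [← e₁]
  refine (germ_map ((EtCoh.pull q).obj F) _ g₁ pz a).symm.trans ?_
  rw [hg]
  refine (germ_map ((EtCoh.pull q).obj F) _ g₂ pz _).trans ?_
  refine congrArg (fun r => germ ((EtCoh.pull q).obj F) (ξ ≫ ρ) _ r (unitAt q F U s))
    (Over.OverMorphism.ext (pullback.hom_ext ?_ ?_))
  · refine Eq.trans ?_ (pullback.lift_fst _ _ _).symm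
    exact ((Category.assoc _ _ _).trans ((Category.assoc _ _ _)))
  · refine Eq.trans ?_ (pullback.lift_snd _ _ _).symm
    refine (Category.assoc _ _ _).trans ((congrArg ((l ≫ _) ≫ ·) (Over.w g₂.hom)).trans ?_)
    exact fiberHom_comp pz

theorem ofF_toF (σ : Germs ((EtCoh.pull q).obj F) (Over.mk ρ)) :
    Extend.ofF F q ρ (toF F q ρ σ) = σ := by
  funext x
  obtain ⟨Ω, η, ξ, h⟩ := x
  subst h
  exact (stkIso F q (rfl : (ξ ≫ ρ) ≫ q = _)).apply_symm_apply _

end Groth.Agent.Lib.PBC50.ToF
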