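import Groth.Agent.Lib.PBC50.Stalk
import Groth.Agent.Lib.PBC50.ToF
import Groth.Agent.Lib.EtSite.BCGerm

/-!
# Proper base change in degree zero
-/

set_option autoImplicit false

universe u

open CategoryTheory CategoryTheory.Limits AlgebraicGeometry Opposite

set_option backward.isDefEq.respectTransparency false

noncomputable section

namespace Groth.Agent.Lib.PBC50.BC

open Groth.Agent.Lib.EtSite Groth.Agent.Lib.EtSite.Basic Groth.Agent.Lib.EtSite.PushStalk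
open Groth.Agent.Lib.EtGerm Groth.Agent.Lib.EtGerm.Basic
open Groth.Agent.Lib.EtSubmersive.Basic (germUnit bijective_germUnit germUnit_germ unitApp)

variable {X Y X' Y' : Scheme.{u}} {f : X ⟶ Y} {g : Y' ⟶ Y} {f' : X' ⟶ Y'} {g' : X' ⟶ X}

/-- A transformation `f_* F ⟶ g_* f'_* g'^* F` given by the unit and a comparison. -/
theorem exists_cmp (w : g' ≫ f = f' ≫ g) (F : EtCoh.Ab X) (V : Y.Etale) :
    ∃ cc : BaseChange.Cmp f g f' g' V,
      ((EtCoh.push f).map ((EtCoh.pullPushAdj g').unit.app F) ≫ (EtCoh.pushComp f g').hom.app _ ≫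
        (EtCoh.pushCongr w).hom.app _ ≫ (EtCoh.pushComp g f').inv.app _).hom.app (op V) =
        ((EtCoh.pullPushAdj g').unit.app F).hom.app (op ((EtCoh.bc f).obj V)) ≫
          ((EtCoh.pull g').obj F).obj.map cc.hom.op :=
  ⟨BaseChange.cmp w V, by
    simp only [EtCoh.pushComp, EtCoh.pushCongr, BaseChange.cmp, op_comp, Functor.map_comp,
      Category.assoc]
    simp⟩

/-- The base change map on stalks, read upstairs. -/
theorem germ_bc (w : g' ≫ f = f' ≫ g) (F : EtCoh.Ab X) {Ω : Type u} [Field Ω] [IsSepClosed Ω]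
    (η : Spec (CommRingCat.of Ω) ⟶ Y') (V : Y.Etale)
    (p : (Scheme.pointSmallEtale (η ≫ g)).fiber.obj V)
    (s : EtCoh.sect F ((EtCoh.bc f).obj V)) :
    ∃ cc : BaseChange.Cmp f g f' g' V,
      (Scheme.pointSmallEtale η).sheafFiber.map (EtCoh.baseChange0 f g f' g' w F)
          (germUnit g ((EtCoh.push f).obj F) rfl (germ ((EtCoh.push f).obj F) (η ≫ g) V p s)) =
        germ ((EtCoh.push f').obj ((EtCoh.pull g').obj F)) η ((EtCoh.bc g).obj V) (liftPt g rfl V p)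
          (((EtCoh.pull g').obj F).obj.map cc.hom.op
            (HensClosed.unitAt g' F ((EtCoh.bc f).obj V) s)) := by
  obtain ⟨cc, hc⟩ := exists_cmp w F V
  refine ⟨cc, ?_⟩
  refine (congrArg _ (germUnit_germ g ((EtCoh.push f).obj F) rfl V p s)).trans ?_
  refine ((Scheme.pointSmallEtale η).toPresheafFiber_naturality_apply
    (EtCoh.baseChange0 f g f' g' w F).hom ((EtCoh.bc g).obj V) (liftPt g rfl V p) _).trans ?_
  refine congrArg (germ ((EtCoh.push f').obj ((EtCoh.pull g').obj F)) η _ (liftPt g rfl V p)) ?_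
  have h := ((EtCoh.pullPushAdj g).homEquiv_unit _ _ (EtCoh.baseChange0 f g f' g' w F)).symm.trans
    (Equiv.apply_symm_apply _ _)
  exact (ConcreteCategory.congr_hom (congrArg (fun φ => φ.hom.app (op V)) h) s).trans
    (ConcreteCategory.congr_hom hc s)

theorem ofF_apply {P Q : Scheme.{u}} (F : EtCoh.Ab X) (q : P ⟶ X) (ρ : Q ⟶ P)
    (τ : Germs F (Over.mk (ρ ≫ q))) (Ω : Type u) [Field Ω] [IsSepClosed Ω]
    (η : Spec (CommRingCat.of Ω) ⟶ P) (ξ : Spec (CommRingCat.of Ω) ⟶ Q) (h : ξ ≫ ρ = η)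
    (h' : ξ ≫ ρ ≫ q = η ≫ q) :
    Extend.ofF F q ρ τ ⟨Ω, η, ξ, h⟩ = germUnit q F rfl (τ ⟨Ω, η ≫ q, ξ, h'⟩) := rfl

theorem Θ_bc (w : g' ≫ f = f' ≫ g) (F : EtCoh.Ab X) {Ω : Type u} [Field Ω] [IsSepClosed Ω]
    {η : Spec (CommRingCat.of Ω) ⟶ Y'} {Q : Scheme.{u}} {a' : Q ⟶ X'}
    {b : Q ⟶ Spec (CommRingCat.of Ω)} (w' : a' ≫ f' = b ≫ η) (wc : (a' ≫ g') ≫ f = b ≫ η ≫ g)
    (z : Stk ((EtCoh.push f).obj F) (η ≫ g)) :
    Stalk.Θ f' w' ((EtCoh.pull g').obj F)
      ((Scheme.pointSmallEtale η).sheafFiber.map (EtCoh.baseChange0 f g f' g' w F)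
        (germUnit g ((EtCoh.push f).obj F) rfl z)) =
      Extend.ofF F g' a' (Stalk.Θ f wc F z) := by
  obtain ⟨V, p, s, rfl⟩ := exists_germ _ z
  obtain ⟨cc, hcc⟩ := germ_bc w F η V p s
  rw [hcc]
  funext x
  obtain ⟨Ω', η', ξ, hx⟩ := x
  change ξ ≫ a' = η' at hx
  subst hx
  refine Eq.trans (Stalk.Θ_germ f' w' _ _ _ _ _) ?_
  rw [ofF_apply F g' a' _ Ω' (ξ ≫ a') ξ rfl (Category.assoc _ _ _).symm, Stalk.Θ_germ]
  refine Eq.trans ?_ (germUnit_germ g' F rfl _ _ s).symm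
  refine (germ_map ((EtCoh.pull g').obj F) (ξ ≫ a') cc.hom _ _).trans ?_
  refine congrArg (fun r => germ ((EtCoh.pull g').obj F) (ξ ≫ a') _ r
    (HensClosed.unitAt g' F ((EtCoh.bc f).obj V) s)) ?_
  have hη : (ξ ≫ b) ≫ η = (ξ ≫ a') ≫ f' := Stalk.comm_aux f' w' rfl
  have hη₂ : ((ξ ≫ a') ≫ g') ≫ f = ((ξ ≫ a') ≫ f') ≫ g := by
    simp only [Category.assoc, w]
  refine Eq.trans ?_ ((cc.map_liftPt (rfl : (ξ ≫ a') ≫ f' = _) hη₂
    (extPt (ξ ≫ b) (by rw [← Category.assoc, hη]) V p)).trans ?_)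
  · refine congrArg (fun r => (Scheme.pointSmallEtale (ξ ≫ a')).fiber.map cc.hom
      (liftPt f' rfl _ r)) (Over.OverMorphism.ext (pullback.hom_ext ?_ ?_))
    · refine Eq.trans ?_ (pullback.lift_fst _ _ _).symm
      exact (Category.assoc _ _ _).trans ((ξ ≫ b) ≫= pullback.lift_fst _ _ _)
    · refine Eq.trans ?_ (pullback.lift_snd _ _ _).symm
      exact (Category.assoc _ _ _).trans (((ξ ≫ b) ≫= pullback.lift_snd _ _ _).trans hη)
  · exact congrArg (liftPt g' rfl _) (Over.OverMorphism.ext (pullback.hom_ext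
      ((pullback.lift_fst _ _ _).trans (pullback.lift_fst _ _ _).symm)
      ((pullback.lift_snd _ _ _).trans (pullback.lift_snd _ _ _).symm)))

theorem bijective_stalk [IsProper f] (sq : IsPullback g' f' f g) (F : EtCoh.Ab X) {Ω : Type u}
    [Field Ω] [IsSepClosed Ω] (η : Spec (CommRingCat.of Ω) ⟶ Y') :
    Function.Bijective ((Scheme.pointSmallEtale η).sheafFiber.map
      (EtCoh.baseChange0 f g f' g' sq.w F)) := by
  have : IsProper f' := MorphismProperty.of_isPullback (P := @IsProper) sq ‹_›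
  let a' := pullback.fst f' η
  let b := pullback.snd f' η
  have h' : IsPullback a' b f' η := IsPullback.of_hasPullback f' η
  have h : IsPullback (a' ≫ g') b f (η ≫ g) := h'.paste_horiz sq
  let M : Stk ((EtCoh.push f).obj F) (η ≫ g) → _ := fun z =>
    (Scheme.pointSmallEtale η).sheafFiber.map (EtCoh.baseChange0 f g f' g' sq.w F)
      (germUnit g ((EtCoh.push f).obj F) rfl z)
  suffices hM : Function.Bijective M from
    (Function.Bijective.of_comp_iff _ (bijective_germUnit g _ rfl)).1 hM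
  have key : ∀ z, Stalk.Θ f' h'.w ((EtCoh.pull g').obj F) (M z) =
      Extend.ofF F g' a' (Stalk.Θ f h.w F z) := Θ_bc sq.w F h'.w h.w
  constructor
  · intro z z' e
    refine (Stalk.bijective_toSect h).1 (Subtype.ext (funext fun x => ?_))
    obtain ⟨Ω', η', ξ, hx⟩ := x
    subst hx
    have e' : Extend.ofF F g' a' (Stalk.Θ f h.w F z) = Extend.ofF F g' a' (Stalk.Θ f h.w F z') :=
      (key z).symm.trans ((congrArg (Stalk.Θ f' h'.w ((EtCoh.pull g').obj F)) e).trans (key z'))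
    have e'' := (bijective_germUnit g' F rfl).1 (congrFun e' ⟨Ω', ξ ≫ a', ξ, rfl⟩)
    change Stalk.Θ f h.w F z _ = Stalk.Θ f h.w F z' _
    have hc : ξ ≫ (Over.mk (a' ≫ g')).hom = (ξ ≫ a') ≫ g' := (Category.assoc _ _ _).symm
    have aux : ∀ (η'' : Spec (CommRingCat.of Ω') ⟶ X) (hη : η'' = (ξ ≫ a') ≫ g')
        (h₁ : ξ ≫ (Over.mk (a' ≫ g')).hom = η''),
        Stalk.Θ f h.w F z ⟨Ω', η'', ξ, h₁⟩ = Stalk.Θ f h.w F z' ⟨Ω', η'', ξ, h₁⟩ := by
      rintro _ rfl h₁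
      exact e''
    exact aux _ hc _
  · intro w
    obtain ⟨z, hz⟩ := (Stalk.bijective_toSect h).2
      ⟨_, ToF.isLocRep_toF F g' a' (Stalk.isLocRep_Θ f' h'.w _ w)⟩
    refine ⟨z, (Stalk.bijective_toSect h').1 (Subtype.ext ?_)⟩
    refine (key z).trans ?_
    rw [show Stalk.Θ f h.w F z = _ from congrArg Subtype.val hz, ToF.ofF_toF]
    rfl

theorem isIso_baseChange0 [IsProper f] (sq : IsPullback g' f' f g) (F : EtCoh.Ab X) :
    IsIso (EtCoh.baseChange0 f g f' g' sq.w F) := by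
  refine EtSite.Stalk.isIso_of_stalks _ fun y => ?_
  exact ⟨_, inferInstance, inferInstance, Push.algPoint Y' y, Push.algPoint_apply Y' y default,
    bijective_stalk sq F _⟩

end Groth.Agent.Lib.PBC50.BC
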