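import Groth.Agent.Lib.PBC50.SetsExt
import Groth.Agent.Lib.PBC50.BC

/-!
# Proper base change for sheaves of sets
-/

set_option autoImplicit false

universe u

open CategoryTheory CategoryTheory.Limits AlgebraicGeometry Opposite

set_option backward.isDefEq.respectTransparency false

noncomputable section

namespace Groth.Agent.Lib.PBC50.SetsBC

open Groth.Agent.Lib.EtSite Groth.Agent.Lib.EtSite.Basic Groth.Agent.Lib.EtSite.SubDescent
open Groth.Agent.Lib.EtSite.PushStalk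
open Groth.Agent.Lib.PBC50.SetsExt (U toFree stalk_ext)

section kappa

variable {Z : Scheme.{u}} (A : EtCoh.Ab Z) {Ω : Type u} [Field Ω] [IsSepClosed Ω]
  (ξ : Spec (CommRingCat.of Ω) ⟶ Z)

/-- The stalk of the underlying sheaf of sets in the stalk. -/
def κ : stalk ξ (U A) → EtGerm.Basic.Stk A ξ :=
  fun x => (Scheme.pointSmallEtale ξ).presheafFiberDesc (P := (U A).obj)
    (fun V p => TypeCat.ofHom fun s => EtGerm.Basic.germ A ξ V p s)
    (fun V V' g p => by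
      ext s
      exact EtGerm.Basic.germ_map A ξ g p s) x

theorem κ_germ {V : Z.Etale} (p : (Scheme.pointSmallEtale ξ).fiber.obj V) (s : EtCoh.sect A V) :
    κ A ξ (germ ξ (U A) p s) = EtGerm.Basic.germ A ξ V p s :=
  ConcreteCategory.congr_hom ((Scheme.pointSmallEtale ξ).toPresheafFiber_presheafFiberDesc
    (P := (U A).obj) (fun V p => TypeCat.ofHom fun s => EtGerm.Basic.germ A ξ V p s) _ V p) s

theorem κ_injective : Function.Injective (κ A ξ) := by
  intro x y h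
  obtain ⟨V₁, p₁, s₁, rfl⟩ := (Scheme.pointSmallEtale ξ).toPresheafFiber_jointly_surjective
    (P := (U A).obj) x
  obtain ⟨V₂, p₂, s₂, rfl⟩ := (Scheme.pointSmallEtale ξ).toPresheafFiber_jointly_surjective
    (P := (U A).obj) y
  let W := IsCofiltered.min ((Scheme.pointSmallEtale ξ).fiber.elementsMk V₁ p₁)
    ((Scheme.pointSmallEtale ξ).fiber.elementsMk V₂ p₂)
  let a : W ⟶ (Scheme.pointSmallEtale ξ).fiber.elementsMk V₁ p₁ := IsCofiltered.minToLeft _ _
  let b : W ⟶ (Scheme.pointSmallEtale ξ).fiber.elementsMk V₂ p₂ := IsCofiltered.minToRight _ _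
  have ha : (Scheme.pointSmallEtale ξ).fiber.map a.1 W.2 = p₁ := a.2
  have hb : (Scheme.pointSmallEtale ξ).fiber.map b.1 W.2 = p₂ := b.2
  change κ A ξ (germ ξ (U A) p₁ s₁) = κ A ξ (germ ξ (U A) p₂ s₂) at h
  change germ ξ (U A) p₁ s₁ = germ ξ (U A) p₂ s₂
  rw [← ha, ← hb, ← germ_map, ← germ_map] at h ⊢
  rw [κ_germ, κ_germ] at h
  exact (BaseChange.toPresheafFiber_eq_iff_mem (U A).obj W.1 _ _ W.2).2
    ((EtGerm.Basic.germ_eq_iff A ξ W.1 W.2 _ _).1 h)

end kappa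

variable {X Y X' Y' : Scheme.{u}} {f : X ⟶ Y} {g : Y' ⟶ Y} {f' : X' ⟶ Y'} {g' : X' ⟶ X}

/-- The comparison of inverse images. -/
def ψ (q : X' ⟶ X) (A : EtCoh.Ab X) :
    (EtDesc.pullSh q).obj (U A) ⟶ U ((EtCoh.pull q).obj A) :=
  ((EtDesc.adjSh q).homEquiv (U A) (U ((EtCoh.pull q).obj A))).symm
    ((sheafCompose X.smallEtaleTopology (forget AddCommGrpCat.{u + 1})).map
      ((EtCoh.pullPushAdj q).unit.app A))

theorem ψ_unitSh (q : X' ⟶ X) (A : EtCoh.Ab X) (V : X.Etale) (s : EtCoh.sect A V) :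
    (ψ q A).hom.app (op ((EtCoh.bc q).obj V)) (unitSh q (U A) V s) =
      HensClosed.unitAt q A V s := by
  have e := ((EtDesc.adjSh q).homEquiv (U A) (U ((EtCoh.pull q).obj A))).apply_symm_apply
    ((sheafCompose X.smallEtaleTopology (forget AddCommGrpCat.{u + 1})).map
      ((EtCoh.pullPushAdj q).unit.app A))
  rw [Adjunction.homEquiv_unit] at e
  exact congrArg (fun m : U A ⟶ (EtDesc.pushSh q).obj (U ((EtCoh.pull q).obj A)) =>
    m.hom.app (op V) s) e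

theorem κ_ψ_germUnit (q : X' ⟶ X) (A : EtCoh.Ab X) {Ω : Type u} [Field Ω] [IsSepClosed Ω]
    {ξ₀ : Spec (CommRingCat.of Ω) ⟶ X} {ξ : Spec (CommRingCat.of Ω) ⟶ X'} (h : ξ ≫ q = ξ₀)
    (x : stalk ξ₀ (U A)) :
    κ ((EtCoh.pull q).obj A) ξ (stalkMap ξ (ψ q A) (germUnit q (U A) h x)) =
      EtSubmersive.Basic.germUnit q A h (κ A ξ₀ x) := by
  obtain ⟨V, p, s, rfl⟩ := (Scheme.pointSmallEtale ξ₀).toPresheafFiber_jointly_surjective
    (P := (U A).obj) x
  change κ _ ξ (stalkMap ξ (ψ q A) (germUnit q (U A) h (germ ξ₀ (U A) p s))) =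
    EtSubmersive.Basic.germUnit q A h (κ A ξ₀ (germ ξ₀ (U A) p s))
  rw [κ_germ, germUnit_germ, stalkMap_germ, ψ_unitSh]
  exact (κ_germ _ ξ _ _).trans (EtSubmersive.Basic.germUnit_germ q A h V p s).symm

theorem injective_ψ (q : X' ⟶ X) (A : EtCoh.Ab X) {Ω : Type u} [Field Ω] [IsSepClosed Ω]
    (ξ : Spec (CommRingCat.of Ω) ⟶ X') : Function.Injective (stalkMap ξ (ψ q A)) := by
  intro x y e
  obtain ⟨x₀, rfl⟩ := (bijective_germUnit q (U A) (rfl : ξ ≫ q = _)).2 x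
  obtain ⟨y₀, rfl⟩ := (bijective_germUnit q (U A) (rfl : ξ ≫ q = _)).2 y
  have e' := congrArg (κ ((EtCoh.pull q).obj A) ξ) e
  rw [κ_ψ_germUnit, κ_ψ_germUnit] at e'
  rw [κ_injective A _ ((EtSubmersive.Basic.bijective_germUnit q A rfl).1 e')]

variable [IsProper f] (sq : IsPullback g' f' f g) {Ω : Type u} [Field Ω] [IsAlgClosed Ω]
  {η : Spec (CommRingCat.of Ω) ⟶ Y'}

include sq in
theorem over_pt {ξ : Spec (CommRingCat.of Ω) ⟶ X'} (hξ : ξ ≫ f' = η) : (ξ ≫ g') ≫ f = η ≫ g := by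
  rw [Category.assoc, sq.w, ← Category.assoc, hξ]

/-- The two stalk elements have corresponding germs. -/
def Good (F : EtDesc.Sh X) (σ : stalk η ((EtDesc.pushSh f').obj ((EtDesc.pullSh g').obj F)))
    (c : stalk (η ≫ g) ((EtDesc.pushSh f).obj F)) : Prop :=
  ∀ (ξ : Spec (CommRingCat.of Ω) ⟶ X') (hξ : ξ ≫ f' = η) (h₀ : (ξ ≫ g') ≫ f = η ≫ g),
    (germTo f' (Type (u + 1)) hξ).app ((EtDesc.pullSh g').obj F) σ =
      germUnit g' F rfl ((germTo f (Type (u + 1)) h₀).app F c)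

include sq in
theorem eq_of_good {F : EtDesc.Sh X}
    {σ : stalk η ((EtDesc.pushSh f').obj ((EtDesc.pullSh g').obj F))}
    {c : stalk (η ≫ g) ((EtDesc.pushSh f).obj F)} (h : Good F σ c) :
    stalkMap η (EtBC.baseChange0Sh f g f' g' sq.w F)
      (germUnit g ((EtDesc.pushSh f).obj F) rfl c) = σ := by
  have : IsProper f' := MorphismProperty.of_isPullback (P := @IsProper) sq ‹_›
  refine stalk_ext f' _ _ _ fun ξ hξ => ?_
  exact (BCGerm.germTo_baseChange0Sh sq.w F hξ rfl rfl (over_pt sq hξ) c).trans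
    (h ξ hξ (over_pt sq hξ)).symm

include sq in
theorem exists_good_U (A : EtCoh.Ab X)
    (σ : stalk η ((EtDesc.pushSh f').obj ((EtDesc.pullSh g').obj (U A)))) :
    ∃ c : stalk (η ≫ g) ((EtDesc.pushSh f).obj (U A)), Good (U A) σ c := by
  obtain ⟨V', p', t, rfl⟩ := (Scheme.pointSmallEtale η).toPresheafFiber_jointly_surjective
    (P := ((EtDesc.pushSh f').obj ((EtDesc.pullSh g').obj (U A))).obj) σ
  let B := (EtCoh.pull g').obj A
  let t' : EtCoh.sect B ((EtCoh.bc f').obj V') := (ψ g' A).hom.app (op ((EtCoh.bc f').obj V')) t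
  obtain ⟨w, hw⟩ := (BC.bijective_stalk sq A η).2
    (EtGerm.Basic.germ ((EtCoh.push f').obj B) η V' p' t')
  obtain ⟨z, rfl⟩ := (EtSubmersive.Basic.bijective_germUnit g ((EtCoh.push f).obj A) rfl).2 w
  obtain ⟨V, p, s, rfl⟩ := EtGerm.Basic.exists_germ _ z
  obtain ⟨cc, hcc⟩ := BC.germ_bc sq.w A η V p s
  have e := hcc.symm.trans hw
  refine ⟨germ (η ≫ g) ((EtDesc.pushSh f).obj (U A)) p s, fun ξ hξ h₀ => ?_⟩
  refine (germTo_toPresheafFiber f' hξ _ V' p' t).trans ?_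
  refine Eq.trans ?_ (congrArg (germUnit g' (U A) rfl) (germTo_toPresheafFiber f h₀ (U A) V p s)).symm
  apply injective_ψ g' A ξ
  apply κ_injective B ξ
  refine (congrArg (κ B ξ) (stalkMap_germ ξ (ψ g' A) _ t)).trans ?_
  refine (κ_germ B ξ _ _).trans ?_
  refine Eq.trans ?_ (κ_ψ_germUnit g' A rfl _).symm
  refine Eq.trans ?_ (congrArg (EtSubmersive.Basic.germUnit g' A rfl) (κ_germ A _ (liftPt f h₀ V p) s)).symm
  refine Eq.trans ?_ (EtSubmersive.Basic.germUnit_germ g' A rfl _ _ s).symm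
  have e' := congrArg ((germTo f' AddCommGrpCat.{u + 1} hξ).app B) e
  refine ((germTo_toPresheafFiber f' hξ B V' p' t').symm.trans (e'.symm.trans ?_))
  refine (germTo_toPresheafFiber f' hξ B _ (liftPt g rfl V p) _).trans ?_
  refine (EtGerm.Basic.germ_map B ξ cc.hom _ _).trans ?_
  exact congrArg (fun r => EtGerm.Basic.germ B ξ _ r (HensClosed.unitAt g' A _ s))
    (cc.map_liftPt hξ h₀ p)

include sq in
theorem exists_good (F : EtDesc.Sh X)
    (σ : stalk η ((EtDesc.pushSh f').obj ((EtDesc.pullSh g').obj F))) :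
    ∃ c : stalk (η ≫ g) ((EtDesc.pushSh f).obj F), Good F σ c := by
  obtain ⟨H, a, b, hab, hsec⟩ := BCGerm.exists_of_regularMono (toFree F)
  let m := toFree F
  let σ' := stalkMap η ((EtDesc.pushSh f').map ((EtDesc.pullSh g').map m)) σ
  obtain ⟨c, hc⟩ := exists_good_U sq _ σ'
  obtain ⟨V, p, s, rfl⟩ := (Scheme.pointSmallEtale (η ≫ g)).toPresheafFiber_jointly_surjective
    (P := ((EtDesc.pushSh f).obj (U (SetsExt.freeSh F))).obj) c
  have hnat : ∀ (ξ : Spec (CommRingCat.of Ω) ⟶ X') (hξ : ξ ≫ f' = η),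
      (germTo f' (Type (u + 1)) hξ).app _ σ' =
        stalkMap ξ ((EtDesc.pullSh g').map m) ((germTo f' (Type (u + 1)) hξ).app _ σ) :=
    fun ξ hξ => ConcreteCategory.congr_hom
      ((germTo f' (Type (u + 1)) hξ).naturality ((EtDesc.pullSh g').map m)) σ
  have hgerm : ∀ (ξ : Spec (CommRingCat.of Ω) ⟶ X) (h : ξ ≫ f = η ≫ g),
      germ ξ H (liftPt f h V p) (a.hom.app _ s) = germ ξ H (liftPt f h V p) (b.hom.app _ s) := by
    intro ξ₀ h₀
    obtain ⟨ξ, hξ, rfl⟩ : ∃ ξ : Spec (CommRingCat.of Ω) ⟶ X', ξ ≫ f' = η ∧ ξ ≫ g' = ξ₀ :=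
      ⟨sq.lift ξ₀ η h₀, sq.lift_snd _ _ _, sq.lift_fst _ _ _⟩
    apply (bijective_germUnit g' H (rfl : ξ ≫ g' = _)).1
    have e := (hnat ξ hξ).symm.trans ((hc ξ hξ h₀).trans (congrArg (germUnit g' _ rfl)
      (germTo_toPresheafFiber f h₀ (U (SetsExt.freeSh F)) V p s)))
    have key : ∀ d : U (SetsExt.freeSh F) ⟶ H, germUnit g' H rfl
        (germ (ξ ≫ g') H (liftPt f h₀ V p) (d.hom.app _ s)) =
        stalkMap ξ ((EtDesc.pullSh g').map (m ≫ d))
          ((germTo f' (Type (u + 1)) hξ).app _ σ) := by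
      intro d
      rw [Functor.map_comp, stalkMap_comp, e, germUnit_naturality, stalkMap_germ]
    exact (key a).trans ((congrArg (fun d => stalkMap ξ ((EtDesc.pullSh g').map d)
      ((germTo f' (Type (u + 1)) hξ).app _ σ)) hab).trans (key b).symm)
  have heq := SetsExt.push_ext f H V p (a.hom.app _ s) (b.hom.app _ s) hgerm
  obtain ⟨V₁, o, p₁, hp₁, ho⟩ :=
    ((Scheme.pointSmallEtale (η ≫ g)).toPresheafFiber_eq_iff' V p _ _).1 heq
  obtain ⟨r, hr⟩ := hsec _ ((U (SetsExt.freeSh F)).obj.map ((EtCoh.bc f).map o).op s) (by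
    rw [NatTrans.naturality_apply a.hom, NatTrans.naturality_apply b.hom]
    exact ho)
  refine ⟨germ (η ≫ g) ((EtDesc.pushSh f).obj F) p₁ r, fun ξ hξ h₀ => ?_⟩
  apply SubSheaf.injective_stalk ((EtDesc.pullSh g').map m) ξ
  refine (hnat ξ hξ).symm.trans ((hc ξ hξ h₀).trans ?_)
  refine Eq.trans ?_ (germUnit_naturality g' m rfl _).symm
  refine congrArg (germUnit g' _ rfl) ?_
  refine Eq.trans ?_ (ConcreteCategory.congr_hom
    ((germTo f (Type (u + 1)) h₀).naturality m) _)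
  refine congrArg ((germTo f (Type (u + 1)) h₀).app _) ?_
  refine Eq.trans ?_ (stalkMap_germ (η ≫ g) ((EtDesc.pushSh f).map m) p₁ r).symm
  refine Eq.trans ?_ (congrArg (germ (η ≫ g) ((EtDesc.pushSh f).obj (U _)) p₁) hr).symm
  exact ((germ_map (η ≫ g) ((EtDesc.pushSh f).obj (U _)) o p₁ s).trans
    (congrArg (fun q => germ (η ≫ g) ((EtDesc.pushSh f).obj (U _)) q s) hp₁)).symm

include sq in
/-- Proper base change for sheaves of sets. -/
theorem isIso_baseChange0Sh (F : EtDesc.Sh X) :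
    IsIso (EtBC.baseChange0Sh f g f' g' sq.w F) := by
  refine EtSite.Stalk.isIso_of_stalks _ fun y => ?_
  let η := Push.algPoint Y' y
  refine ⟨_, inferInstance, inferInstance, η, Push.algPoint_apply Y' y default, ?_⟩
  refine (Function.Bijective.of_comp_iff _
    (bijective_germUnit g ((EtDesc.pushSh f).obj F) (rfl : η ≫ g = η ≫ g))).1
      ⟨fun c c' e => stalk_ext f _ _ _ fun ξ₀ h₀ => ?_, fun σ => ?_⟩
  · obtain ⟨ξ, hξ, rfl⟩ : ∃ ξ, ξ ≫ f' = η ∧ ξ ≫ g' = ξ₀ :=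
      ⟨sq.lift ξ₀ η h₀, sq.lift_snd _ _ _, sq.lift_fst _ _ _⟩
    apply (bijective_germUnit g' F (rfl : ξ ≫ g' = _)).1
    rw [← BCGerm.germTo_baseChange0Sh sq.w F hξ rfl rfl h₀ c,
      ← BCGerm.germTo_baseChange0Sh sq.w F hξ rfl rfl h₀ c']
    exact congrArg ((germTo f' (Type (u + 1)) hξ).app _) e
  · obtain ⟨c, hc⟩ := exists_good sq F σ
    exact ⟨c, eq_of_good sq hc⟩

end Groth.Agent.Lib.PBC50.SetsBC
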