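import Groth.Agent.Lib.EtGerm.Compare
import Groth.Agent.Lib.EtSite.HensClosed

/-!
# Extending locally representable germ functions along a morphism
-/

set_option autoImplicit false

universe u

open CategoryTheory CategoryTheory.Limits AlgebraicGeometry Opposite

set_option backward.isDefEq.respectTransparency false

noncomputable section

namespace Groth.Agent.Lib.PBC50.Extend

open Groth.Agent.Lib.EtSite Groth.Agent.Lib.EtSite.Basic Groth.Agent.Lib.EtSite.PushStalk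
  Groth.Agent.Lib.EtSite.HensClosed
open Groth.Agent.Lib.EtGerm Groth.Agent.Lib.EtGerm.Basic
open Groth.Agent.Lib.EtSubmersive.Basic (germUnit bijective_germUnit germUnit_germ unitApp)

variable {X P P' : Scheme.{u}} (F : EtCoh.Ab X) (q : P ⟶ X) (ρ : P' ⟶ P)

/-- The morphism over `X`. -/
abbrev mor : Over.mk (ρ ≫ q) ⟶ Over.mk q := Over.homMk ρ rfl

/-- A germ function on `P'` over `X` as one over `P`. -/
def ofF (τ : Germs F (Over.mk (ρ ≫ q))) :
    Germs ((EtCoh.pull q).obj F) (Over.mk ρ) :=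
  fun x => germUnit q F (rfl : x.η ≫ q = x.η ≫ q)
    (τ ⟨x.Ω, x.η ≫ q, x.ξ, (Category.assoc _ _ _).symm.trans (congrArg (· ≫ q) x.comm)⟩)

theorem isLocRep_ofF {τ : Germs F (Over.mk (ρ ≫ q))} (hτ : IsLocRep F τ) :
    IsLocRep ((EtCoh.pull q).obj F) (ofF F q ρ τ) := by
  intro t
  obtain ⟨V, c, hc, W, b, hb, a, ht, h⟩ := hτ t
  refine ⟨V, c, hc, (EtCoh.bc q).obj W,
    pullback.lift b (c ≫ ρ) (hb.trans (Category.assoc _ _ _).symm), pullback.lift_snd _ _ _,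
    unitAt q F W a, ht, fun Ω _ _ η ξ hξ l hl => ?_⟩
  have hξ' : ξ ≫ ρ ≫ q = η ≫ q := (Category.assoc _ _ _).symm.trans (congrArg (· ≫ q) hξ)
  change germUnit q F rfl (τ ⟨Ω, η ≫ q, ξ, hξ'⟩) = _
  rw [h Ω (η ≫ q) ξ hξ' l hl]
  refine (germUnit_germ q F rfl W _ a).trans ?_
  refine congrArg (fun r => germ ((EtCoh.pull q).obj F) η _ r (unitAt q F W a))
    (Over.OverMorphism.ext (pullback.hom_ext ?_ ?_))
  · refine (pullback.lift_fst _ _ _).trans ?_
    exact ((Category.assoc _ _ _).trans (l ≫= pullback.lift_fst _ _ _)).symm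
  · refine (pullback.lift_snd _ _ _).trans ?_
    refine ((Category.assoc _ _ _).trans ((l ≫= pullback.lift_snd _ _ _).trans ?_)).symm
    exact (Category.assoc _ _ _).symm.trans ((congrArg (· ≫ ρ) hl).trans hξ)

/-- If the unit along `ρ` is surjective on global sections, germ functions extend along `ρ`. -/
theorem exists_extend
    (hρ : ∀ G : EtCoh.Ab P, Function.Surjective (unitAt ρ G (EtCoh.top P)))
    (τ : sect F (Over.mk (ρ ≫ q))) :
    ∃ σ : sect F (Over.mk q), restr F (mor q ρ) σ.1 = τ.1 := by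
  let G := (EtCoh.pull q).obj F
  obtain ⟨t, ht⟩ := Compare.exists_global (F := G) (T := Over.mk ρ)
    ⟨ofF F q ρ τ.1, isLocRep_ofF F q ρ τ.2⟩
  let H := (EtCoh.pull ρ).obj G
  obtain ⟨s, hs⟩ := hρ G (H.obj.map (EtCore.bcTopIso ρ).hom.op t)
  refine ⟨Compare.equiv F (Over.mk q) s, funext fun x => ?_⟩
  obtain ⟨Ω, η, ξ, hx⟩ := x
  have hq : (ξ ≫ ρ) ≫ q = η := (Category.assoc _ _ _).trans hx
  subst hq
  change (Compare.stkEquiv F (Over.mk q) ⟨Ω, (ξ ≫ ρ) ≫ q, ξ ≫ ρ, rfl⟩).symm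
    (Compare.germAt F (Over.mk q) ⟨Ω, (ξ ≫ ρ) ≫ q, ξ ≫ ρ, rfl⟩ s) = _
  rw [AddEquiv.symm_apply_eq]
  refine (Compare.stkEquiv G (Over.mk ρ) ⟨Ω, ξ ≫ ρ, ξ, rfl⟩).injective ?_
  refine Eq.trans ?_ ((AddEquiv.eq_symm_apply _).1 (congrFun ht ⟨Ω, ξ ≫ ρ, ξ, rfl⟩).symm).symm
  refine (germUnit_germ ρ G rfl (EtCoh.top P) _ s).trans ?_
  refine (congrArg (germ H ξ _ (liftPt ρ rfl _ _)) hs).trans ?_
  refine (germ_map H ξ (EtCore.bcTopIso ρ).hom _ t).trans ?_
  exact congrArg (fun r => germ H ξ (EtCoh.top P') r t) (Compare.eq_topPt (Over.mk ρ) _)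

end Groth.Agent.Lib.PBC50.Extend
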