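import Groth.Agent.Lib.PBC50.Extend
import Groth.Agent.Lib.Gabber50.Proper
import Groth.Agent.Lib.EtSubmersive.Main
import Groth.Agent.Lib.GeomConn.SepClosed

/-!
# Proper schemes over strictly henselian local rings and the geometric closed fibre
-/

set_option autoImplicit false
set_option linter.overlappingInstances false

universe u

open CategoryTheory CategoryTheory.Limits AlgebraicGeometry Opposite

set_option backward.isDefEq.respectTransparency false

noncomputable section

namespace Groth.Agent.Lib.PBC50.ClosedFibre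

open Groth.Agent.Lib.EtSite Groth.Agent.Lib.EtSite.HensClosed
open Groth.Agent.Lib.EtGerm Groth.Agent.Lib.EtGerm.Basic

variable {A : Type u} [CommRing A] [IsLocalRing A] {Ω : Type u} [Field Ω] (e : A →+* Ω)
  (he : ∀ z, z ∈ IsLocalRing.maximalIdeal A ↔ e z = 0)
  {P Q : Scheme.{u}} (π : P ⟶ Spec (CommRingCat.of A)) {ρ : Q ⟶ P}
  {b : Q ⟶ Spec (CommRingCat.of Ω)} (h : IsPullback ρ b π (Spec.map (CommRingCat.ofHom e)))

include he h in
theorem mem_range (x : P) (hx : π.base x = IsLocalRing.closedPoint A) : x ∈ Set.range ρ.base := by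
  obtain ⟨z, hz, -⟩ := Scheme.Pullback.exists_preimage_pullback (f := π)
    (g := Spec.map (CommRingCat.ofHom e)) x default (by
      refine hx.trans (PrimeSpectrum.ext ?_)
      ext a
      refine (he a).trans ?_
      generalize (default : Spec (CommRingCat.of Ω)) = y
      obtain ⟨p, hp⟩ := y
      change e a = 0 ↔ e a ∈ p
      rw [Ideal.eq_bot_of_prime p, Ideal.mem_bot])
  exact ⟨h.isoPullback.inv.base z,
    (congr($(h.isoPullback_inv_fst) z)).trans hz⟩

include he h in
/-- A closed subset missing the closed fibre is empty. -/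
theorem eq_univ [IsProper π] (O : P.Opens) (hO : ∀ z, ρ.base z ∈ O) (x : P) : x ∈ O := by
  by_contra hx
  obtain ⟨w, hw, hwc⟩ := HensClosed.closedPoint_mem_of_isClosed
    (π.isClosedMap _ O.2.isClosed_compl) ⟨_, x, hx, rfl⟩
  obtain ⟨z, rfl⟩ := mem_range e he π h w hwc
  exact hw (hO z)

variable [HenselianLocalRing A] [IsSepClosed (IsLocalRing.ResidueField A)]

include he h in
/-- Germ functions on the geometric closed fibre extend. -/
theorem exists_extend [IsProper π] {X : Scheme.{u}} (F : EtCoh.Ab X) (q : P ⟶ X)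
    (τ : sect F (Over.mk (ρ ≫ q))) :
    ∃ σ : sect F (Over.mk q), restr F (Extend.mor q ρ) σ.1 = τ.1 := by
  let k := IsLocalRing.ResidueField A
  let e₀ : k →+* Ω := Ideal.Quotient.lift (IsLocalRing.maximalIdeal A) e fun z hz => (he z).1 hz
  let : Algebra k Ω := e₀.toAlgebra
  let i : Spec (CommRingCat.of k) ⟶ Spec (CommRingCat.of A) :=
    Spec.map (CommRingCat.ofHom (IsLocalRing.residue A))
  let j : Spec (CommRingCat.of Ω) ⟶ Spec (CommRingCat.of k) :=
    Spec.map (CommRingCat.ofHom (algebraMap k Ω))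
  have hj : j ≫ i = Spec.map (CommRingCat.ofHom e) := by
    rw [← Spec.map_comp]; rfl
  let ρ₀ : Q ⟶ pullback π i := pullback.lift ρ (b ≫ j) (by rw [Category.assoc, hj]; exact h.w)
  have hρ₀ : ρ₀ ≫ pullback.fst π i = ρ := pullback.lift_fst _ _ _
  have sq : IsPullback ρ₀ b (pullback.snd π i) j :=
    IsPullback.of_right (hρ₀.symm ▸ hj.symm ▸ h) (pullback.lift_snd _ _ _)
      (IsPullback.of_hasPullback π i)
  have : Flat j := inferInstance
  have : QuasiCompact j := inferInstance
  have : Surjective j := ⟨fun y => ⟨default, Subsingleton.elim _ _⟩⟩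
  have : Flat ρ₀ := MorphismProperty.of_isPullback (P := @Flat) sq.flip inferInstance
  have : QuasiCompact ρ₀ := MorphismProperty.of_isPullback (P := @QuasiCompact) sq.flip inferInstance
  have : Surjective ρ₀ := MorphismProperty.of_isPullback (P := @Surjective) sq.flip inferInstance
  have : GeometricallyConnected j := GeomConn.SepClosed.geometricallyConnected_specMap k Ω
  have : GeometricallyConnected ρ₀ :=
    MorphismProperty.of_isPullback (P := @GeometricallyConnected) sq.flip inferInstance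
  have h₀ : ∀ G : EtCoh.Ab (pullback π i), Function.Surjective (unitAt ρ₀ G (EtCoh.top _)) :=
    fun G => (EtSubmersive.Main.bijective_unit ρ₀ G
      (fun S' g => Flat.isQuotientMap_of_surjective (pullback.snd ρ₀ g))
      (fun K _ _ s => GeometricallyConnected.geometrically_connectedSpace _ _ _
        (IsPullback.of_hasPullback ρ₀ s))).2
  obtain ⟨σ₀, hσ₀⟩ := Extend.exists_extend F (pullback.fst π i ≫ q) ρ₀ h₀
    ⟨_, IsLocRep.restr F (Over.homMk (𝟙 Q) (by
      change 𝟙 Q ≫ ρ ≫ q = ρ₀ ≫ pullback.fst π i ≫ q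
      rw [Category.id_comp, ← reassoc_of% hρ₀]) :
        Over.mk (ρ₀ ≫ pullback.fst π i ≫ q) ⟶ Over.mk (ρ ≫ q)) τ.2⟩
  obtain ⟨σ, hσ⟩ := Extend.exists_extend F q (pullback.fst π i)
    (fun G => (Gabber50.Proper.bijective_pullback (IsLocalRing.maximalIdeal A) π G).2) σ₀
  refine ⟨σ, funext fun x => ?_⟩
  obtain ⟨K, η, ξ, hx⟩ := x
  have hc : (ξ ≫ ρ₀) ≫ pullback.fst π i ≫ q = η := by
    rw [Category.assoc, reassoc_of% hρ₀]; exact hx
  have hc' : ξ ≫ ρ₀ ≫ pullback.fst π i ≫ q = η := (Category.assoc _ _ _).symm.trans hc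
  refine Eq.trans ?_ ((congrFun hσ ⟨K, η, ξ ≫ ρ₀, hc⟩).trans
    ((congrFun hσ₀ ⟨K, η, ξ, hc'⟩).trans ?_))
  · exact Glue.germs_congr F σ.1 (by
      change ξ ≫ ρ = (ξ ≫ ρ₀) ≫ pullback.fst π i
      rw [Category.assoc, hρ₀]) _ _
  · exact Glue.germs_congr F τ.1 (Category.comp_id ξ) _ _

end Groth.Agent.Lib.PBC50.ClosedFibre
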