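import Groth.Agent.Lib.EtLim50.Nbhds
import Groth.Agent.Lib.EtLim50.Sections

/-!
# The base change to the strictly local scheme as a limit
-/

set_option autoImplicit false

universe u

open CategoryTheory CategoryTheory.Limits AlgebraicGeometry Opposite

set_option backward.isDefEq.respectTransparency false

noncomputable section

namespace Groth.Agent.Lib.PBC50.Limit

open Groth.Agent.Lib.EtSite Groth.Agent.Lib.EtSite.Basic
open Groth.Agent.Lib.EtLim50

variable {X Y : Scheme.{u}} (f : X ⟶ Y) {Ω : Type u} [Field Ω] [IsSepClosed Ω]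
  (η : Spec (CommRingCat.of Ω) ⟶ Y)

/-- The structure map of a neighbourhood. -/
abbrev str (a : Nbhds.Idx Y η) : (Nbhds.diag Y η).obj a ⟶ Y := ((Nbhds.nbhd Y η).obj a).hom

/-- The map of the strictly local scheme to the base. -/
def σ : Nbhds.S Y η ⟶ Y :=
  (Nbhds.cone Y η).π.app (IsCofiltered.nonempty.some) ≫ str η IsCofiltered.nonempty.some

theorem π_str (a : Nbhds.Idx Y η) : (Nbhds.cone Y η).π.app a ≫ str η a = σ η := by
  have key : ∀ {c d : Nbhds.Idx Y η} (φ : c ⟶ d),
      (Nbhds.cone Y η).π.app c ≫ str η c = (Nbhds.cone Y η).π.app d ≫ str η d := fun {c d} φ => by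
    rw [← (Nbhds.cone Y η).w φ, Category.assoc]
    exact congrArg (_ ≫ ·) (Over.w ((Nbhds.nbhd Y η).map φ).hom).symm
  exact (key (IsCofiltered.minToLeft a IsCofiltered.nonempty.some)).symm.trans (key (IsCofiltered.minToRight _ _))

/-- The geometric point of the strictly local scheme. -/
def pt : Spec (CommRingCat.of Ω) ⟶ Nbhds.S Y η :=
  Spec.map (CommRingCat.ofHom (LocalRing.ev η).hom)

theorem pt_π (a : Nbhds.Idx Y η) : pt η ≫ (Nbhds.cone Y η).π.app a = fiberHom a.2 := by
  rw [Nbhds.cone_π]
  refine (Category.assoc _ _ _).symm.trans ?_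
  refine (Iso.comp_inv_eq _).mpr ?_
  have : IsAffine ((Nbhds.aff Y).obj a.fst).left := Nbhds.isAffine_nbhd Y η a
  refine (Eq.trans ?_ (Scheme.isoSpec_hom_naturality (fiberHom a.2)))
  refine (Spec.map_comp _ _).symm.trans ?_
  change Spec.map (LocalRing.germ η ((Nbhds.nbhd Y η).obj a) a.2 ≫ LocalRing.ev η) = _
  rw [LocalRing.germ_ev, LocalRing.evApp, Spec.map_comp]
  simp [Scheme.isoSpec]

theorem pt_σ : pt η ≫ σ η = η := by
  have a : Nbhds.Idx Y η := IsCofiltered.nonempty.some
  rw [← π_str η a, ← Category.assoc, pt_π]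
  exact fiberHom_comp a.2

/-- The base changes of the neighbourhoods. -/
abbrev W : Nbhds.Idx Y η ⥤ X.Etale := Nbhds.nbhd Y η ⋙ EtCoh.bc f

/-- The projection to `X`. -/
abbrev q : pullback f (σ η) ⟶ X := pullback.fst f (σ η)

/-- The legs. -/
abbrev leg (a : Nbhds.Idx Y η) : pullback f (σ η) ⟶ pullback (str η a) f :=
  pullback.lift (pullback.snd f (σ η) ≫ (Nbhds.cone Y η).π.app a) (pullback.fst f (σ η))
    (by rw [Category.assoc, π_str]; exact pullback.condition.symm)

theorem map_fst {a b : Nbhds.Idx Y η} (φ : a ⟶ b) :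
    (Sections.diag (W f η)).map φ ≫ pullback.fst (str η b) f =
      pullback.fst (str η a) f ≫ (Nbhds.diag Y η).map φ :=
  (EtCoh.isPullback_bc_map f ((Nbhds.nbhd Y η).map φ)).w

theorem map_snd {a b : Nbhds.Idx Y η} (φ : a ⟶ b) :
    (Sections.diag (W f η)).map φ ≫ pullback.snd (str η b) f = pullback.snd (str η a) f :=
  Over.w ((W f η).map φ).hom

instance isAffineHom_diag {a b : Nbhds.Idx Y η} (φ : a ⟶ b) :
    IsAffineHom ((Sections.diag (W f η)).map φ) :=
  MorphismProperty.of_isPullback (P := @IsAffineHom)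
    (EtCoh.isPullback_bc_map f ((Nbhds.nbhd Y η).map φ)).flip (Nbhds.isAffineHom_diag Y η φ)

/-- The cone. -/
@[reducible] def cone : Cone (Sections.diag (W f η)) where
  pt := pullback f (σ η)
  π.app a := leg f η a
  π.naturality a b φ := by
    refine (Category.id_comp _).trans ?_
    apply pullback.hom_ext
    · refine (pullback.lift_fst _ _ _).trans ?_
      refine Eq.trans ?_ (Category.assoc _ _ _).symm
      refine Eq.trans ?_ (congrArg (leg f η a ≫ ·) (map_fst f η φ).symm)
      rw [pullback.lift_fst_assoc, Category.assoc, (Nbhds.cone Y η).w φ]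
    · refine (pullback.lift_snd _ _ _).trans ?_
      refine Eq.trans ?_ (Category.assoc _ _ _).symm
      refine Eq.trans ?_ (congrArg (leg f η a ≫ ·) (map_snd f η φ).symm)
      rw [pullback.lift_snd]

theorem cone_hq (a : Nbhds.Idx Y η) : (cone f η).π.app a ≫ ((W f η).obj a).hom = q f η :=
  pullback.lift_snd _ _ _

/-- The projection of diagrams. -/
def proj : Sections.diag (W f η) ⟶ Nbhds.diag Y η where
  app a := pullback.fst (str η a) f
  naturality _ _ φ := map_fst f η φ

instance : IsConnected (Nbhds.Idx Y η) := IsCofiltered.isConnected _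

/-- It is a limit. -/
def isLimitCone : IsLimit (cone f η) :=
  isLimitOfIsPullbackOfIsConnected (proj f η) (cone f η) (Nbhds.cone Y η)
    { hom := pullback.snd f (σ η)
      w := fun a => (pullback.lift_fst _ _ _).symm }
    (fun a => by
      refine (IsPullback.of_right (h₁₂ := pullback.snd (str η a) f) (v₁₃ := f) (h₂₂ := str η a)
        ?_ (pullback.lift_fst _ _ _) (IsPullback.of_hasPullback (str η a) f).flip).flip.flip
      rw [π_str]
      erw [pullback.lift_snd]
      exact IsPullback.of_hasPullback f (σ η))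
    (Nbhds.isLimitCone Y η)

end Groth.Agent.Lib.PBC50.Limit
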