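import Groth.Agent.Lib.PBC50.Limit
import Groth.Agent.Lib.PBC50.ClosedFibre

/-!
# The stalk of a direct image along a proper morphism
-/

set_option autoImplicit false

universe u

open CategoryTheory CategoryTheory.Limits AlgebraicGeometry Opposite

set_option backward.isDefEq.respectTransparency false

noncomputable section

namespace Groth.Agent.Lib.PBC50.Stalk

open Groth.Agent.Lib.EtSite Groth.Agent.Lib.EtSite.Basic Groth.Agent.Lib.EtSite.PushStalk
open Groth.Agent.Lib.EtGerm Groth.Agent.Lib.EtGerm.Basic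
open Groth.Agent.Lib.EtLim50

variable {X Y Q : Scheme.{u}} (f : X ⟶ Y) {Ω : Type u} [Field Ω] [IsSepClosed Ω]
  {η : Spec (CommRingCat.of Ω) ⟶ Y} {a : Q ⟶ X} {b : Q ⟶ Spec (CommRingCat.of Ω)}
  (w : a ≫ f = b ≫ η) (F : EtCoh.Ab X)

include w in
theorem comm_aux {Ω' : Type u} [Field Ω'] {ξ : Spec (CommRingCat.of Ω') ⟶ Q}
    {η' : Spec (CommRingCat.of Ω') ⟶ X} (h : ξ ≫ a = η') : (ξ ≫ b) ≫ η = η' ≫ f := by
  rw [Category.assoc, ← w, ← Category.assoc, h]

/-- The germ function of an element of the stalk. -/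
def Θ : Stk ((EtCoh.push f).obj F) η →+ Germs F (Over.mk a) where
  toFun z x := (germTo f AddCommGrpCat.{u + 1} (rfl : x.η ≫ f = x.η ≫ f)).app F
    (extStk ((EtCoh.push f).obj F) (x.ξ ≫ b) (comm_aux f w x.comm) z)
  map_zero' := funext fun x => by
    rw [map_zero]
    exact map_zero _
  map_add' z z' := funext fun x => by
    rw [map_add]
    exact map_add _ _ _

theorem Θ_germ (V : Y.Etale) (p : (Scheme.pointSmallEtale η).fiber.obj V)
    (s : EtCoh.sect F ((EtCoh.bc f).obj V)) (x : GPt (Over.mk a)) :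
    Θ f w F (germ ((EtCoh.push f).obj F) η V p s) x =
      germ F x.η ((EtCoh.bc f).obj V)
        (liftPt f rfl V (extPt (x.ξ ≫ b) (comm_aux f w x.comm) V p)) s := by
  refine (congrArg ((germTo f AddCommGrpCat.{u + 1} (rfl : x.η ≫ f = x.η ≫ f)).app F)
    (extStk_germ _ _ _ V p s)).trans ?_
  exact germTo_toPresheafFiber f rfl F V _ s

theorem isLocRep_Θ (z : Stk ((EtCoh.push f).obj F) η) : IsLocRep F (Θ f w F z) := by
  obtain ⟨V, p, s, rfl⟩ := exists_germ _ z
  intro t
  refine ⟨Q, 𝟙 Q, MorphismProperty.id_mem (@Etale) _, (EtCoh.bc f).obj V,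
    pullback.lift (f := V.hom) (g := f) (b ≫ fiberHom p) a
      (by rw [Category.assoc, w]; exact congrArg (b ≫ ·) (fiberHom_comp p)),
    (pullback.lift_snd _ _ _).trans (Category.id_comp _).symm, s, ⟨t, rfl⟩,
    fun Ω' _ _ η' ξ h l hl => ?_⟩
  rw [Θ_germ]
  refine congrArg (fun r => germ F η' _ r s) (Over.OverMorphism.ext (pullback.hom_ext ?_ ?_))
  · refine (pullback.lift_fst _ _ _).trans ?_
    refine ((Category.assoc _ _ _).trans ((l ≫= pullback.lift_fst _ _ _).trans ?_)).symm
    obtain rfl : l = ξ := (Category.comp_id l).symm.trans hl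
    exact (Category.assoc _ _ _).symm
  · refine (pullback.lift_snd _ _ _).trans ?_
    refine ((Category.assoc _ _ _).trans ((l ≫= pullback.lift_snd _ _ _).trans ?_)).symm
    obtain rfl : l = ξ := (Category.comp_id l).symm.trans hl
    exact h

/-- The stalk mapped to the germ functions on the fibre. -/
def toSect : Stk ((EtCoh.push f).obj F) η →+ sect F (Over.mk a) :=
  (Θ f w F).codRestrict _ (isLocRep_Θ f w F)

theorem toSect_apply (z : Stk ((EtCoh.push f).obj F) η) (x : GPt (Over.mk a)) :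
    (toSect f w F z).1 x = Θ f w F z x := rfl

theorem eq_zero_of_toSect (z : Stk ((EtCoh.push f).obj F) η) (hz : toSect f w F z = 0)
    (x : GPt (Over.mk a)) : Θ f w F z x = 0 := by
  rw [← toSect_apply, hz]
  rfl

section cone

variable {Z : Scheme.{u}} {I : Type u} [SmallCategory I] {W : I ⥤ Z.Etale}
  {c : Cone (Sections.diag W)} (q : c.pt ⟶ Z) (hq : ∀ j, c.π.app j ≫ (W.obj j).hom = q)
  (G : EtCoh.Ab Z)

omit [IsSepClosed Ω] in
/-- Sections agreeing along the limit have the same pullback. -/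
theorem res_congr {j : I} (s s' : EtCoh.sect G (W.obj j))
    (hs : ∀ y : c.pt, (c.π.app j).base y ∈ agree G (W.obj j) s s') :
    Sections.res q hq G j s = Sections.res q hq G j s' := by
  refine Sections.ext_of_germ fun Ω' _ _ ζ => ?_
  rw [Sections.germ_res, Sections.germ_res]
  refine congrArg _ ((germ_eq_iff G _ _ _ s s').2 ?_)
  rw [Sections.fiberPt_pj]
  exact hs _

omit [IsSepClosed Ω] in
/-- The germ function of the pullback of a section. -/
theorem toGerms_res {j : I} (s : EtCoh.sect G (W.obj j)) {Ω' : Type u} [Field Ω'] [IsSepClosed Ω']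
    (ζ : Spec (CommRingCat.of Ω') ⟶ c.pt) :
    (Compare.equiv G (Over.mk q) (Sections.res q hq G j s)).1 ⟨Ω', ζ ≫ q, ζ, rfl⟩ =
      germ G (ζ ≫ q) (W.obj j) (Sections.pj q hq ζ j) s := by
  refine (AddEquiv.symm_apply_eq _).2 ?_
  exact Sections.germ_res q hq G ζ j s

end cone

section proper

variable {f w F} (h : IsPullback a b f η) [IsProper f]

/-- The map of the geometric fibre to the base change to the strictly local scheme. -/
abbrev ρ : Q ⟶ pullback f (Limit.σ η) :=
  pullback.lift a (b ≫ Limit.pt η) (by rw [Category.assoc, Limit.pt_σ]; exact h.w)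

theorem isPullback_ρ :
    IsPullback (ρ h) b (pullback.snd f (Limit.σ η)) (Limit.pt η) := by
  refine IsPullback.of_right ?_ (pullback.lift_snd _ _ _) (IsPullback.of_hasPullback f _).flip.flip
  rw [Limit.pt_σ]
  erw [pullback.lift_fst]
  exact h

theorem ρ_comp_leg {Ω' : Type u} [Field Ω'] [IsSepClosed Ω'] (ζ : Spec (CommRingCat.of Ω') ⟶ Q)
    (i : Nbhds.Idx Y η) {η' : Spec (CommRingCat.of Ω') ⟶ X} (hη : ζ ≫ a = η') :
    (ζ ≫ ρ h) ≫ Limit.leg f η i =
      pullback.lift ((ζ ≫ b) ≫ fiberHom i.2) η' (by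
        rw [Category.assoc]
        exact (congrArg ((ζ ≫ b) ≫ ·) (fiberHom_comp i.2)).trans (comm_aux f h.w hη)) := by
  apply pullback.hom_ext
  · rw [Category.assoc, pullback.lift_fst, pullback.lift_fst, Category.assoc,
      pullback.lift_snd_assoc, Category.assoc, Limit.pt_π, ← Category.assoc ζ]
  · rw [Category.assoc, pullback.lift_snd, pullback.lift_snd, Category.assoc, pullback.lift_fst, hη]

theorem compact_stage (i : Nbhds.Idx Y η) : CompactSpace ((Limit.W f η).obj i).left :=
  have : IsAffine ((Nbhds.diag Y η).obj i) := Nbhds.isAffine_diag Y η i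
  show CompactSpace ↥(pullback (Limit.str η i) f : Scheme.{u}) from
    QuasiCompact.compactSpace_of_compactSpace (pullback.fst (Limit.str η i) f)

theorem qs_stage (i : Nbhds.Idx Y η) : QuasiSeparatedSpace ((Limit.W f η).obj i).left :=
  have : IsAffine ((Nbhds.diag Y η).obj i) := Nbhds.isAffine_diag Y η i
  show QuasiSeparatedSpace ↥(pullback (Limit.str η i) f : Scheme.{u}) from
    quasiSeparatedSpace_of_quasiSeparated (pullback.fst (Limit.str η i) f)

set_option maxHeartbeats 1000000 in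
include h in
theorem leg_mem_agree (i : Nbhds.Idx Y η) (s : EtCoh.sect F ((Limit.W f η).obj i))
    (hz : ∀ x : GPt (Over.mk a),
      Θ f h.w F (germ ((EtCoh.push f).obj F) η ((Nbhds.nbhd Y η).obj i) i.2 s) x = 0)
    (y : ↥(pullback f (Limit.σ η))) :
    (Limit.leg f η i).base y ∈ agree F ((Limit.W f η).obj i) s 0 := by
  let A : (pullback f (Limit.σ η)).Opens :=
    ⟨(Limit.leg f η i).base ⁻¹' agree F ((Limit.W f η).obj i) s 0,
      (Basic.isOpen_agree F _ _ _).preimage (Limit.leg f η i).continuous⟩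
  refine ClosedFibre.eq_univ (LocalRing.ev η).hom (LocalRing.mem_maximalIdeal_iff η)
      (pullback.snd f (Limit.σ η)) (isPullback_ρ h) A (fun z => ?_) y
  let ζ := Push.algPoint Q z
  have e := hz ⟨_, ζ ≫ a, ζ, rfl⟩
  rw [Θ_germ] at e
  have e' := (germ_eq_iff F (ζ ≫ a) _ _ s 0).1 (e.trans (map_zero _).symm)
  have h1 : (ρ h).base z = (ζ ≫ ρ h).base default :=
    (congrArg (ρ h).base (Push.algPoint_apply Q z default)).symm
  change (Limit.leg f η i).base ((ρ h).base z) ∈ agree F ((Limit.W f η).obj i) s 0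
  rw [h1]
  exact Set.mem_of_eq_of_mem
    (congrArg (fun m : Spec _ ⟶ pullback (Limit.str η i) f => m.base default)
      (ρ_comp_leg h ζ i rfl)) e'

set_option maxHeartbeats 1000000 in
include h in
theorem injective_toSect : Function.Injective (toSect f h.w F) := by
  refine (injective_iff_map_eq_zero _).2 fun z hz => ?_
  obtain ⟨V, p, s, rfl⟩ := exists_germ _ z
  obtain ⟨i, ⟨α⟩⟩ := Nbhds.exists_hom Y η ⟨V, p⟩
  let s₁ : EtCoh.sect F ((Limit.W f η).obj i) := F.obj.map ((EtCoh.bc f).map α.1).op s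
  have hgerm : germ ((EtCoh.push f).obj F) η V p s =
      germ ((EtCoh.push f).obj F) η ((Nbhds.nbhd Y η).obj i) i.2 s₁ :=
    (congrArg (fun r => germ ((EtCoh.push f).obj F) η V r s) α.2).symm.trans
      (germ_map ((EtCoh.push f).obj F) η α.1 i.2 s).symm
  rw [hgerm] at hz ⊢
  have hres := res_congr (c := Limit.cone f η) (Limit.q f η) (Limit.cone_hq f η) F s₁ 0
    (leg_mem_agree h i s₁ (eq_zero_of_toSect f h.w F _ hz))
  obtain ⟨k, φ, hk⟩ := Sections.exists_eq_of_res_eq (c := Limit.cone f η) (Limit.q f η) (Limit.cone_hq f η) F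
    compact_stage (Limit.isLimitCone f η) s₁ 0 hres
  refine ((congrArg (fun r => germ ((EtCoh.push f).obj F) η _ r s₁) φ.2).symm.trans
    (germ_map ((EtCoh.push f).obj F) η ((Nbhds.incl Y η).map φ).1 k.2 s₁).symm).trans ?_
  refine (congrArg (germ ((EtCoh.push f).obj F) η _ k.2) (hk.trans (map_zero _))).trans (map_zero _)

include h in
theorem Θ_stage (k : Nbhds.Idx Y η) (s : EtCoh.sect F ((Limit.W f η).obj k)) {Ω' : Type u}
    [Field Ω'] [IsSepClosed Ω'] {η' : Spec (CommRingCat.of Ω') ⟶ X}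
    (ξ : Spec (CommRingCat.of Ω') ⟶ Q) (hx : ξ ≫ a = η') :
    Θ f h.w F (germ ((EtCoh.push f).obj F) η ((Nbhds.nbhd Y η).obj k) k.2 s) ⟨Ω', η', ξ, hx⟩ =
      germ F η' ((Limit.W f η).obj k)
        (mkFiber η' _ ((ξ ≫ ρ h) ≫ Limit.leg f η k) ((Category.assoc _ _ _).trans
          (((ξ ≫ ρ h) ≫= pullback.lift_snd _ _ _).trans ((Category.assoc _ _ _).trans
            ((ξ ≫= pullback.lift_fst _ _ _).trans hx))))) s := by
  rw [Θ_germ]
  exact congrArg (fun r => germ F η' _ r s) (Over.OverMorphism.ext (ρ_comp_leg h ξ k hx).symm)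

include h in
theorem surjective_toSect : Function.Surjective (toSect f h.w F) := by
  intro τ
  have := LocalRing.isSepClosed_residueField η
  have hρ : ρ h ≫ Limit.q f η = a := pullback.lift_fst _ _ _
  obtain ⟨σ, hσ⟩ := ClosedFibre.exists_extend (LocalRing.ev η).hom (LocalRing.mem_maximalIdeal_iff η)
    (pullback.snd f (Limit.σ η)) (isPullback_ρ h) F (Limit.q f η)
    ⟨_, IsLocRep.restr F (Over.homMk (𝟙 Q) ((Category.id_comp _).trans hρ.symm) :
        Over.mk (ρ h ≫ Limit.q f η) ⟶ Over.mk a) τ.2⟩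
  obtain ⟨t, rfl⟩ := (Compare.equiv F (Over.mk (Limit.q f η))).surjective σ
  obtain ⟨k, s, hs⟩ := Sections.exists_res_eq (c := Limit.cone f η) (q := Limit.q f η)
    (hq := Limit.cone_hq f η) (F := F) (t := t) compact_stage qs_stage (Limit.isLimitCone f η)
    IsCofiltered.nonempty.some
  subst hs
  refine ⟨germ ((EtCoh.push f).obj F) η ((Nbhds.nbhd Y η).obj k) k.2 s,
    Subtype.ext (funext fun x => ?_)⟩
  obtain ⟨Ω', η', ξ, hx⟩ := x
  have hx' : ξ ≫ a = η' := hx
  have hq' : (ξ ≫ ρ h) ≫ Limit.q f η = η' := by rw [Category.assoc, hρ]; exact hx'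
  refine (Θ_stage h k s ξ hx').trans ?_
  refine Eq.trans ?_ ((congrFun hσ ⟨Ω', η', ξ, (Category.assoc _ _ _).symm.trans hq'⟩).trans
    (Glue.germs_congr F τ.1 (Category.comp_id ξ) _ _))
  subst hq'
  exact (toGerms_res (c := Limit.cone f η) (Limit.q f η) (Limit.cone_hq f η) F s (ξ ≫ ρ h)).symm

include h in
/-- The stalk of a proper direct image is the group of sections on the geometric fibre. -/
theorem bijective_toSect : Function.Bijective (toSect f h.w F) :=
  ⟨injective_toSect h, surjective_toSect h⟩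

end proper

end Groth.Agent.Lib.PBC50.Stalk
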