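import Groth.Agent.Lib.FppfEt.PushIso
import Groth.Agent.Lib.PBC50.Stalk
import Groth.Agent.Lib.EtGerm.UnivGen

/-!
# Direct images along proper morphisms commute with the inverse image to a big site

The stalk of a direct image along a proper morphism is the group of sections over the geometric
fibre, so locally representable functions with values in the direct image are the locally
representable functions on the base change.
-/

set_option autoImplicit false

universe u

open CategoryTheory CategoryTheory.Limits AlgebraicGeometry Opposite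

set_option backward.isDefEq.respectTransparency false

noncomputable section

namespace Groth.Agent.Lib.PBC50.PushBig

open Groth.Agent.Lib.EtSite Groth.Agent.Lib.EtSite.Basic Groth.Agent.Lib.EtSite.PushStalk
  Groth.Agent.Lib.EtGerm Groth.Agent.Lib.EtGerm.Basic Groth.Agent.Lib.EtGerm.Univ
  Groth.Agent.Lib.FppfEt.PushIso

variable {X Y : Scheme.{u}} (f : X ⟶ Y) (F : EtCoh.Ab X) (T : Over Y)

theorem extStk_congr {Ω : Type u} [Field Ω] [IsSepClosed Ω] {η : Spec (CommRingCat.of Ω) ⟶ Y}
    {Ω' : Type u} [Field Ω'] [IsSepClosed Ω'] {η' : Spec (CommRingCat.of Ω') ⟶ Y} (G : EtCoh.Ab Y)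
    {φ φ' : Spec (CommRingCat.of Ω') ⟶ Spec (CommRingCat.of Ω)} (e : φ = φ') (h : φ ≫ η = η')
    (h' : φ' ≫ η = η') (z : Stk G η) : extStk G φ h z = extStk G φ' h' z := by
  subst e; rfl

/-- The value of a function on the base change at a point above `ζ`, through the stalk at `ζ`. -/
theorem toPull_ext {σ : Germs (pF f F) T} (hσ : IsLocRep (pF f F) σ)
    {Ω : Type u} [Field Ω] [IsSepClosed Ω] {η : Spec (CommRingCat.of Ω) ⟶ Y}
    {ζ : Spec (CommRingCat.of Ω) ⟶ T.left} (hζ : ζ ≫ T.hom = η)
    {Ω' : Type u} [Field Ω'] [IsSepClosed Ω'] {η' : Spec (CommRingCat.of Ω') ⟶ X}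
    {x : Spec (CommRingCat.of Ω') ⟶ ((Over.pullback f).obj T).left}
    (hx : x ≫ ((Over.pullback f).obj T).hom = η')
    (φ : Spec (CommRingCat.of Ω') ⟶ Spec (CommRingCat.of Ω)) (hφ : φ ≫ η = η' ≫ f)
    (e : x ≫ pullback.fst T.hom f = φ ≫ ζ) :
    toPull f F T σ ⟨Ω', η', x, hx⟩ = gTo f F rfl (extStk (pF f F) φ hφ (σ ⟨Ω, η, ζ, hζ⟩)) := by
  have hζ' : (φ ≫ ζ) ≫ T.hom = η' ≫ f :=
    (Category.assoc _ _ _).trans ((φ ≫= hζ).trans hφ)
  refine (toPull_apply f F T σ hζ' hx rfl e).trans ?_
  exact congrArg (gTo f F rfl)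
    (IsLocRep.compatExt (pF f F) hσ Ω η ζ hζ Ω' (η' ≫ f) φ hφ (φ ≫ ζ) hζ' rfl)

variable [IsProper f]

theorem sectMap_injective : Function.Injective (sectMap f F T) := by
  refine (injective_iff_map_eq_zero _).2 fun σ hσ => Subtype.ext (funext fun x => ?_)
  obtain ⟨Ω, η, ζ, hζ⟩ := x
  have h := IsPullback.of_hasPullback f η
  refine (Stalk.bijective_toSect (F := F) h).1 ((Subtype.ext (funext fun y => ?_)).trans
    (map_zero (Stalk.toSect f h.w F)).symm)
  obtain ⟨Ω', η', ξ, hy⟩ := y
  have hy' : ξ ≫ pullback.fst f η = η' := hy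
  have hw : ((ξ ≫ pullback.snd f η) ≫ ζ) ≫ T.hom = η' ≫ f :=
    (Category.assoc _ _ _).trans (((ξ ≫ pullback.snd f η) ≫= hζ).trans (Stalk.comm_aux f h.w hy'))
  have h0 := congrFun (congrArg Subtype.val hσ)
    ⟨Ω', η', pullback.lift ((ξ ≫ pullback.snd f η) ≫ ζ) η' hw, pullback.lift_snd _ _ _⟩
  exact (toPull_ext f F T σ.2 hζ (pullback.lift_snd _ _ _) (ξ ≫ pullback.snd f η)
    (Stalk.comm_aux f h.w hy') (pullback.lift_fst _ _ _)).symm.trans h0

set_option maxHeartbeats 1000000 in
theorem exists_local (τ : sect F ((Over.pullback f).obj T)) (t : T.left) :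
    ∃ (T' : Over Y) (g : T' ⟶ T) (σ : sect (pF f F) T'), Etale g.left ∧ t ∈ Set.range g.left.base ∧
      sectMap f F T' σ = (presheaf F).map ((Over.pullback f).map g).op τ := by
  classical
  let α := Push.algPoint T.left t
  let Ω := AlgebraicClosure (T.left.residueField t)
  let η : Spec (CommRingCat.of Ω) ⟶ Y := α ≫ T.hom
  have h := IsPullback.of_hasPullback f η
  have hm : (pullback.snd f η ≫ α) ≫ T.hom = pullback.fst f η ≫ f :=
    (Category.assoc _ _ _).trans h.w.symm
  let mQ : Over.mk (pullback.fst f η) ⟶ (Over.pullback f).obj T :=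
    Over.homMk (pullback.lift (pullback.snd f η ≫ α) (pullback.fst f η) hm) (pullback.lift_snd _ _ _)
  obtain ⟨z, hz⟩ := (Stalk.bijective_toSect (F := F) h).2 ((presheaf F).map mQ.op τ)
  obtain ⟨W, p, a, hwa⟩ := exists_germ (pF f F) z
  have : Etale W.hom := W.prop
  let T₁ : Over Y := Over.mk (pullback.fst T.hom W.hom ≫ T.hom)
  let g : T₁ ⟶ T := Over.homMk (pullback.fst T.hom W.hom) rfl
  let m : T₁ ⟶ (EtFppf.a Y).obj W :=
    Over.homMk (pullback.snd T.hom W.hom) pullback.condition.symm
  let σ₁ : sect (pF f F) T₁ := (presheaf (pF f F)).map m.op (ofSection (pF f F) W a)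
  let α₁ : Spec (CommRingCat.of Ω) ⟶ T₁.left := pullback.lift α (fiberHom p) (fiberHom_comp p).symm
  let τ₁ : sect F ((Over.pullback f).obj T₁) := (presheaf F).map ((Over.pullback f).map g).op τ
  let D : sect F ((Over.pullback f).obj T₁) := sectMap f F T₁ σ₁ - τ₁
  let π : ((Over.pullback f).obj T₁).left ⟶ T₁.left := pullback.fst T₁.hom f
  have : IsProper π := (inferInstance : IsProper (pullback.fst T₁.hom f))
  have hα₁ : α₁ ≫ T₁.hom = η :=
    (Category.assoc _ _ _).symm.trans (congrArg (· ≫ T.hom) (pullback.lift_fst _ _ _))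
  have hfib : ∀ w, π.base w = α₁.base default → ∃ x : GPt ((Over.pullback f).obj T₁),
      x.ξ.base default = w ∧ D.1 x = 0 := by
    intro w hw
    obtain ⟨y, hy, -⟩ := Scheme.Pullback.exists_preimage_pullback (f := π) (g := α₁) w default hw
    let q := Push.algPoint (pullback π α₁) y
    let φ := q ≫ pullback.snd π α₁
    let x := q ≫ pullback.fst π α₁
    have hx : x ≫ π = φ ≫ α₁ :=
      (Category.assoc _ _ _).trans ((q ≫= pullback.condition).trans (Category.assoc _ _ _).symm)
    let η' := x ≫ ((Over.pullback f).obj T₁).hom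
    have hφ : φ ≫ η = η' ≫ f :=
      ((fst_comm f T₁ (rfl : x ≫ _ = η')).symm.trans ((congrArg (· ≫ T₁.hom) hx).trans
        ((Category.assoc _ _ _).trans (φ ≫= hα₁)))).symm
    refine ⟨⟨_, η', x, rfl⟩, (?_ : x.base default = w), ?_⟩
    · exact (congrArg (pullback.fst π α₁).base (Push.algPoint_apply _ y default)).trans hy
    change toPull f F T₁ σ₁.1 ⟨_, η', x, rfl⟩ - _ = 0
    rw [sub_eq_zero]
    refine (toPull_ext f F T₁ σ₁.2 hα₁ rfl φ hφ hx).trans ?_
    change gTo f F rfl (extStk (pF f F) φ hφ (germ (pF f F) η W _ a)) = _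
    have e : mkFiber η W (α₁ ≫ m.left) ((Category.assoc _ _ _).trans
        ((α₁ ≫= Over.w m).trans hα₁)) = p :=
      Over.OverMorphism.ext (pullback.lift_snd _ _ _)
    refine (congrArg (fun r => gTo f F rfl (extStk (pF f F) φ hφ (germ (pF f F) η W r a))) e).trans ?_
    rw [hwa]
    have hξ : pullback.lift η' φ hφ.symm ≫ pullback.fst f η = η' := pullback.lift_fst _ _ _
    have key := congrFun (congrArg Subtype.val hz) ⟨_, η', pullback.lift η' φ hφ.symm, hξ⟩
    have hsnd : pullback.lift η' φ hφ.symm ≫ pullback.snd f η = φ := pullback.lift_snd _ _ _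
    refine Eq.trans ?_ (key.trans ?_)
    · exact congrArg (gTo f F rfl) (extStk_congr (pF f F) hsnd.symm _ _ _)
    refine EtGerm.Glue.germs_congr F τ.1 (pullback.hom_ext ?_ ?_) _ _
    · refine (Category.assoc _ _ _).trans ((_ ≫= pullback.lift_fst _ _ _).trans ?_)
      refine ((Category.assoc _ _ _).symm.trans (congrArg (· ≫ α) hsnd)).trans ?_
      refine Eq.trans ?_ (Category.assoc _ _ _).symm
      refine Eq.trans ?_ (x ≫= (pullback.lift_fst _ _ _).symm)
      refine Eq.trans ?_ (Category.assoc _ _ _)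
      exact ((congrArg (· ≫ pullback.fst T.hom W.hom) hx).trans
        ((Category.assoc _ _ _).trans (φ ≫= pullback.lift_fst _ _ _))).symm
    · refine (Category.assoc _ _ _).trans ((_ ≫= pullback.lift_snd _ _ _).trans ?_)
      refine hξ.trans ?_
      refine Eq.trans ?_ (Category.assoc _ _ _).symm
      exact (x ≫= (pullback.lift_snd _ _ _).symm)
  let C : Set ((Over.pullback f).obj T₁).left :=
    (⋃₀ {O | IsOpen O ∧ ∀ x : GPt ((Over.pullback f).obj T₁), x.ξ.base default ∈ O → D.1 x = 0})ᶜ
  have hC : IsClosed (π.base '' C) :=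
    π.isClosedMap _ (isOpen_sUnion fun O hO => hO.1).isClosed_compl
  let N : T₁.left.Opens := ⟨_, hC.isOpen_compl⟩
  have htN : α₁.base default ∈ N := by
    rintro ⟨w, hwC, hw⟩
    obtain ⟨x, hxw, hx⟩ := hfib w hw
    obtain ⟨O, hO, hxO, hO'⟩ := FppfEt.Base.exists_open_zero F D x hx
    exact hwC (Set.mem_sUnion.2 ⟨O, ⟨hO, hO'⟩, hxw ▸ hxO⟩)
  let T₂ : Over Y := Over.mk (N.ι ≫ T₁.hom)
  let g₂ : T₂ ⟶ T₁ := Over.homMk N.ι rfl
  refine ⟨T₂, g₂ ≫ g, (presheaf (pF f F)).map g₂.op σ₁, ?_,
    ⟨(⟨α₁.base default, htN⟩ : N), ?_⟩, ?_⟩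
  · rw [Over.comp_left _ _ _ _ _]
    exact (inferInstance : Etale (N.ι ≫ pullback.fst T.hom W.hom))
  · rw [Over.comp_left _ _ _ _ _]
    exact (congrArg (fun k => k.base default) (pullback.lift_fst _ _ _ : α₁ ≫ g.left = α)).trans
      (Push.algPoint_apply _ t default)
  · rw [sectMap_natural]
    refine Eq.trans ?_ (map_map (presheaf F) ((Over.pullback f).map g₂) ((Over.pullback f).map g) τ |>.trans
      (congrArg (fun k => (presheaf F).map (Quiver.Hom.op k) τ) ((Over.pullback f).map_comp g₂ g).symm))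
    refine sub_eq_zero.1 ((map_sub ((presheaf F).map ((Over.pullback f).map g₂).op).hom
      (sectMap f F T₁ σ₁) τ₁).symm.trans ?_)
    refine Subtype.ext (funext fun x => ?_)
    change D.1 ⟨x.Ω, x.η, x.ξ ≫ ((Over.pullback f).map g₂).left, _⟩ = 0
    by_contra hne
    have hmem : π.base ((x.ξ ≫ ((Over.pullback f).map g₂).left).base default) ∈ N := by
      have e : ((Over.pullback f).map g₂).left ≫ π = pullback.fst T₂.hom f ≫ N.ι :=
        pullback.lift_fst _ _ _
      have e' := congrArg (fun k => k.base (x.ξ.base default)) e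
      change π.base (((Over.pullback f).map g₂).left.base (x.ξ.base default)) =
        N.ι.base _ at e'
      exact e'.symm ▸ ((pullback.fst T₂.hom f).base (x.ξ.base default) : N).2
    refine hmem ⟨_, fun hU => ?_, rfl⟩
    obtain ⟨O, ⟨-, hO⟩, hxO⟩ := Set.mem_sUnion.1 hU
    exact hne (hO _ hxO)

variable (K : Precoverage Scheme.{u}) (hK₁ : Scheme.etalePrecoverage ≤ K)
  [BigSite.AEtCont K Y] [BigSite.AEtCont K X]
  (hY : Presheaf.IsSheaf (QuotSh.J K Y) (presheaf (pF f F)))
  (hX : Presheaf.IsSheaf (QuotSh.J K X) (presheaf F))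

include hK₁ hY hX in
theorem sectMap_surjective : Function.Surjective (sectMap f F T) := by
  classical
  intro τ
  choose T' g σ hg hmem hσ using exists_local f F T τ
  let L := UnivGen.shP K (pF f F) hY
  let ι : Type (u + 1) := ULift.{u + 1} T.left
  have hS := (Presieve.isSheafFor_arrows_iff (L.obj ⋙ forget AddCommGrpCat.{u + 1})
    (fun t : ι => g t.down)).1 ((Presieve.isSheafFor_iff_generate _).2
      (((isSheaf_iff_isSheaf_of_type _ _).1 (Presheaf.isSheaf_comp_of_isSheaf _ L.obj
        (forget AddCommGrpCat.{u + 1}) L.property)) _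
        (ofArrows_mem K hK₁ (fun t : ι => T' t.down) _ (fun t => hg t.down)
          fun t => ⟨⟨t⟩, hmem t⟩)))
  obtain ⟨s, hs, -⟩ := hS (fun t => σ t.down) fun i j Z gi gj e => by
    refine sectMap_injective f F Z ?_
    change sectMap f F Z ((presheaf (pF f F)).map gi.op (σ i.down)) =
      sectMap f F Z ((presheaf (pF f F)).map gj.op (σ j.down))
    rw [sectMap_natural, sectMap_natural, hσ, hσ]
    refine (map_map (presheaf F) _ _ τ).trans (Eq.trans ?_ (map_map (presheaf F) _ _ τ).symm)
    refine congrArg (fun k => (presheaf F).map (Quiver.Hom.op k) τ) ?_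
    rw [← Functor.map_comp, ← Functor.map_comp]
    exact congrArg ((Over.pullback f).map ·) e
  refine ⟨s, ?_⟩
  refine sections_ext K hK₁ (UnivGen.shP K F hX) (fun t : ι => (Over.pullback f).obj (T' t.down))
    (fun t => (Over.pullback f).map (g t.down))
    (fun t => MorphismProperty.overPullbackMap f (g t.down) (hg t.down)) (fun w => ?_) _ _ fun t => ?_
  · let P := pullback.fst T.hom f
    obtain ⟨v, hv⟩ := hmem (P.base w)
    let gl := (g (P.base w)).left
    obtain ⟨z, -, hz⟩ := Scheme.Pullback.exists_preimage_pullback (f := gl) (g := P) v w hv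
    let m : pullback gl P ⟶ ((Over.pullback f).obj (T' (P.base w))).left :=
      pullback.lift (pullback.fst gl P) (pullback.snd gl P ≫ pullback.snd T.hom f) (by
        rw [← Over.w (g (P.base w)), pullback.condition_assoc, Category.assoc]
        exact (_ ≫= pullback.condition))
    refine ⟨⟨P.base w⟩, m.base z, ?_⟩
    refine Eq.trans ?_ hz
    refine congrArg (fun k => k.base z) (show m ≫ ((Over.pullback f).map (g (P.base w))).left =
      pullback.snd gl P from pullback.hom_ext ?_ ?_)
    · refine (Category.assoc _ _ _).trans ((m ≫= pullback.lift_fst _ _ _).trans ?_)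
      refine (Category.assoc _ _ _).symm.trans ((congrArg (· ≫ gl) (pullback.lift_fst _ _ _)).trans ?_)
      exact pullback.condition
    · refine (Category.assoc _ _ _).trans ((m ≫= pullback.lift_snd _ _ _).trans ?_)
      exact pullback.lift_snd _ _ _
  · exact (sectMap_natural f F T (g t.down) s).symm.trans
      ((congrArg (sectMap f F _) (hs t)).trans (hσ t.down))

omit [IsProper f] in
/-- The morphism of sheaves. -/
def homGen : UnivGen.shP K (pF f F) hY ⟶
    (BigSite.pushBig K f AddCommGrpCat.{u + 1}).obj (UnivGen.shP K F hX) :=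
  Sheaf.homEquiv.symm
    { app := fun T => AddCommGrpCat.ofHom (sectMap f F T.unop)
      naturality := fun T T' g => AddCommGrpCat.hom_ext (AddMonoidHom.ext fun σ =>
        sectMap_natural f F T.unop g.unop σ) }

include hK₁ in
theorem isIso_homGen : IsIso (homGen f F K hY hX) := by
  have : ∀ T, IsIso ((homGen f F K hY hX).hom.app T) := fun T =>
    (ConcreteCategory.isIso_iff_bijective _).2
      ⟨sectMap_injective f F T.unop, sectMap_surjective f F T.unop K hK₁ hY hX⟩
  have : IsIso ((sheafToPresheaf (QuotSh.J K Y) AddCommGrpCat.{u + 1}).map (homGen f F K hY hX)) :=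
    NatIso.isIso_of_isIso_app (homGen f F K hY hX).hom
  exact isIso_of_reflects_iso (homGen f F K hY hX) (sheafToPresheaf _ _)

include hK₁ hY hX in
/-- Direct images along proper morphisms commute with the inverse image to a big site on which
locally representable functions form a sheaf. -/
theorem nonempty_iso_gen : Nonempty ((BigSite.piEtPull K Y).obj ((EtCoh.push f).obj F) ≅
    (BigSite.pushBig K f AddCommGrpCat.{u + 1}).obj ((BigSite.piEtPull K X).obj F)) :=
  have := isIso_homGen f F K hK₁ hY hX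
  have := UnivGen.isIso_comp K (pF f F) hK₁ hY
  have := UnivGen.isIso_comp K F hK₁ hX
  ⟨asIso (UnivGen.comp K (pF f F) hY) ≪≫ asIso (homGen f F K hY hX) ≪≫
    ((BigSite.pushBig K f AddCommGrpCat.{u + 1}).mapIso (asIso (UnivGen.comp K F hX))).symm⟩

omit hY hX in
include hK₁ in
/-- Direct images along proper morphisms commute with the inverse image to a big site. -/
theorem nonempty_iso (hK₂ : K ≤ Scheme.fpqcPrecoverage) :
    Nonempty ((BigSite.piEtPull K Y).obj ((EtCoh.push f).obj F) ≅
    (BigSite.pushBig K f AddCommGrpCat.{u + 1}).obj ((BigSite.piEtPull K X).obj F)) :=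
  nonempty_iso_gen f F K hK₁ (Univ.shP K (pF f F) hK₂).property (Univ.shP K F hK₂).property

end Groth.Agent.Lib.PBC50.PushBig
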