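import Groth.Agent.Lib.EtSite.BCGerm
import Mathlib.AlgebraicGeometry.AlgClosed.Basic
import Mathlib.Algebra.Category.Grp.Adjunctions
import Mathlib.CategoryTheory.Sites.LocallyInjective

/-!
# Germs of direct images of sheaves of sets along proper morphisms; embedding into abelian sheaves
-/

set_option autoImplicit false

universe u

open CategoryTheory CategoryTheory.Limits AlgebraicGeometry Opposite

set_option backward.isDefEq.respectTransparency false

noncomputable section

namespace Groth.Agent.Lib.PBC50.SetsExt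

open Groth.Agent.Lib.EtSite Groth.Agent.Lib.EtSite.Basic Groth.Agent.Lib.EtSite.SubDescent
open Groth.Agent.Lib.EtSite.PushStalk

variable {X Y : Scheme.{u}} (f : X ⟶ Y) [UniversallyClosed f] [LocallyOfFiniteType f]
  {Ω : Type u} [Field Ω] [IsAlgClosed Ω] {η : Spec (CommRingCat.of Ω) ⟶ Y} (F : EtDesc.Sh X)

/-- Germs of a proper direct image are detected at the rational points of the fibre. -/
theorem push_ext (V : Y.Etale) (p : (Scheme.pointSmallEtale η).fiber.obj V)
    (s t : EtDesc.sect F ((EtCoh.bc f).obj V))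
    (hst : ∀ (ξ : Spec (CommRingCat.of Ω) ⟶ X) (h : ξ ≫ f = η),
      germ ξ F (liftPt f h V p) s = germ ξ F (liftPt f h V p) t) :
    germ η ((EtDesc.pushSh f).obj F) p s = germ η ((EtDesc.pushSh f).obj F) p t := by
  let O : Set ((EtCoh.bc f).obj V).left :=
    {w | ∃ (W : X.Etale) (g : W ⟶ (EtCoh.bc f).obj V), F.obj.map g.op s = F.obj.map g.op t ∧
      w ∈ Set.range g.left.base}
  have hO : IsOpen O := BaseChange.isOpen_agree F.obj _ s t
  let m : pullback f η ⟶ pullback V.hom f :=
    pullback.lift (pullback.snd f η ≫ fiberHom p) (pullback.fst f η) (by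
      rw [Category.assoc]
      exact (congrArg (pullback.snd f η ≫ ·) (fiberHom_comp p)).trans pullback.condition.symm)
  have hclosed : ∀ z : ↥(pullback f η), IsClosed {z} → m.base z ∈ O := by
    intro z hz
    let r := pointOfClosedPoint (pullback.snd f η) z hz
    have hξ : (r ≫ pullback.fst f η) ≫ f = η := by
      rw [Category.assoc, pullback.condition, ← Category.assoc]
      exact (congrArg (· ≫ η) (pointOfClosedPoint_comp (pullback.snd f η) z hz)).trans
        (Category.id_comp η)
    refine Set.mem_of_eq_of_mem ?_ ((BaseChange.toPresheafFiber_eq_iff_mem F.obj _ s t _).1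
      (hst _ hξ))
    refine (congrArg m.base (pointOfClosedPoint_apply (pullback.snd f η) z hz default)).symm.trans ?_
    have e : r ≫ m = pullback.lift (fiberHom p) (r ≫ pullback.fst f η)
        ((fiberHom_comp p).trans hξ.symm) := by
      apply pullback.hom_ext
      · rw [Category.assoc, pullback.lift_fst, pullback.lift_fst, ← Category.assoc]
        exact (congrArg (· ≫ fiberHom p) (pointOfClosedPoint_comp (pullback.snd f η) z hz)).trans
          (Category.id_comp _)
      · rw [Category.assoc, pullback.lift_snd, pullback.lift_snd]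
    exact congrArg (fun q : Spec (CommRingCat.of Ω) ⟶ pullback V.hom f => q.base default) e
  have : JacobsonSpace ↥(pullback f η) := LocallyOfFiniteType.jacobsonSpace (pullback.snd f η)
  have hall : ∀ z : ↥(pullback f η), m.base z ∈ O := by
    intro z
    by_contra hz
    have hC : IsClosed (m.base ⁻¹' Oᶜ) := hO.isClosed_compl.preimage m.continuous
    have := JacobsonSpace.closure_inter_closedPoints hC
    obtain ⟨z', hz', hc⟩ : ((m.base ⁻¹' Oᶜ) ∩ closedPoints ↥(pullback f η)).Nonempty := by
      refine closure_nonempty_iff.1 ⟨z, ?_⟩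
      rw [this]
      exact hz
    exact hz' (hclosed z' hc)
  let W : V.left.Opens := ⟨((pullback.fst V.hom f).base '' Oᶜ)ᶜ,
    ((pullback.fst V.hom f).isClosedMap _ hO.isClosed_compl).isOpen_compl⟩
  have hW : fiberPt p ∈ W := by
    rintro ⟨w, hw, hwp⟩
    obtain ⟨z, hz, -⟩ := Scheme.Pullback.exists_preimage_pullback (f := pullback.fst V.hom f)
      (g := fiberHom p) w default hwp
    let r : pullback (pullback.fst V.hom f) (fiberHom p) ⟶ pullback f η :=
      pullback.lift (pullback.fst _ _ ≫ pullback.snd V.hom f) (pullback.snd _ _) (by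
        rw [Category.assoc, ← pullback.condition, ← Category.assoc, pullback.condition,
          Category.assoc]
        exact congrArg (pullback.snd _ _ ≫ ·) (fiberHom_comp p))
    have e : r ≫ m = pullback.fst (pullback.fst V.hom f) (fiberHom p) := by
      refine pullback.hom_ext ?_ ?_
      · refine (Category.assoc _ _ _).trans ((congrArg (r ≫ ·) (pullback.lift_fst _ _ _)).trans ?_)
        rw [← Category.assoc, pullback.lift_snd]
        exact pullback.condition.symm
      · refine (Category.assoc _ _ _).trans ((congrArg (r ≫ ·) (pullback.lift_snd _ _ _)).trans ?_)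
        exact pullback.lift_fst _ _ _
    refine hw (Set.mem_of_eq_of_mem ?_ (hall (r.base z)))
    exact hz.symm.trans (congrArg (fun q : pullback (pullback.fst V.hom f) (fiberHom p) ⟶
      pullback V.hom f => q.base z) e).symm
  have : Etale V.hom := V.prop
  let V' : Y.Etale := Scheme.Etale.mk (W.ι ≫ V.hom)
  let a : V' ⟶ V := MorphismProperty.Over.homMk W.ι rfl
  obtain ⟨p', hp', -⟩ := Fiber.exists_fiber_map η a p ⟨fiberPt p, hW⟩ rfl
  have key : F.obj.map ((EtCoh.bc f).map a).op s = F.obj.map ((EtCoh.bc f).map a).op t := by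
    refine Stalk.sections_ext F _ _ fun w => ?_
    have hmem : ((EtCoh.bc f).map a).left.base w ∈ O := by
      by_contra hn
      refine ((pullback.fst V'.hom f).base w).2 ⟨_, hn, ?_⟩
      exact congrArg (fun m => m.base w) (EtCoh.isPullback_bc_map f a).w
    obtain ⟨Z, g, hg, z, hz⟩ := hmem
    obtain ⟨T, α, β, τ, hαβ, hτ⟩ := Fiber.exists_refine ((EtCoh.bc f).map a) g w z hz.symm
    refine ⟨T, α, ?_, τ, hτ⟩
    simp only [← ConcreteCategory.comp_apply, ← Functor.map_comp, ← op_comp, hαβ]
    simp only [op_comp, Functor.map_comp, ConcreteCategory.comp_apply, hg]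
  rw [← hp', ← germ_map, ← germ_map]
  exact congrArg (fun r => germ η ((EtDesc.pushSh f).obj F) p' r) key

/-- Elements of the stalk with the same germs at the rational points of the fibre are equal. -/
theorem stalk_ext (c c' : stalk η ((EtDesc.pushSh f).obj F))
    (h : ∀ (ξ : Spec (CommRingCat.of Ω) ⟶ X) (h : ξ ≫ f = η),
      (germTo f (Type (u + 1)) h).app F c = (germTo f (Type (u + 1)) h).app F c') : c = c' := by
  obtain ⟨V₁, p₁, s₁, rfl⟩ := (Scheme.pointSmallEtale η).toPresheafFiber_jointly_surjective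
    (P := ((EtDesc.pushSh f).obj F).obj) c
  obtain ⟨V₂, p₂, s₂, rfl⟩ := (Scheme.pointSmallEtale η).toPresheafFiber_jointly_surjective
    (P := ((EtDesc.pushSh f).obj F).obj) c'
  let W := IsCofiltered.min ((Scheme.pointSmallEtale η).fiber.elementsMk V₁ p₁)
    ((Scheme.pointSmallEtale η).fiber.elementsMk V₂ p₂)
  let a : W ⟶ (Scheme.pointSmallEtale η).fiber.elementsMk V₁ p₁ := IsCofiltered.minToLeft _ _
  let b : W ⟶ (Scheme.pointSmallEtale η).fiber.elementsMk V₂ p₂ := IsCofiltered.minToRight _ _
  have ha : (Scheme.pointSmallEtale η).fiber.map a.1 W.2 = p₁ := a.2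
  have hb : (Scheme.pointSmallEtale η).fiber.map b.1 W.2 = p₂ := b.2
  change ∀ ξ (h : ξ ≫ f = η), (germTo f (Type (u + 1)) h).app F
      (germ η ((EtDesc.pushSh f).obj F) p₁ s₁) =
    (germTo f (Type (u + 1)) h).app F (germ η ((EtDesc.pushSh f).obj F) p₂ s₂) at h
  change germ η ((EtDesc.pushSh f).obj F) p₁ s₁ = germ η ((EtDesc.pushSh f).obj F) p₂ s₂
  rw [← ha, ← hb, ← germ_map, ← germ_map] at h ⊢
  refine push_ext f F W.1 W.2 _ _ fun ξ hξ => ?_
  exact (germTo_toPresheafFiber f hξ F W.1 W.2 _).symm.trans
    ((h ξ hξ).trans (germTo_toPresheafFiber f hξ F W.1 W.2 _))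

/-- The free abelian sheaf. -/
def freeSh {Z : Scheme.{u}} (G : EtDesc.Sh Z) : EtCoh.Ab Z :=
  (presheafToSheaf Z.smallEtaleTopology AddCommGrpCat.{u + 1}).obj (G.obj ⋙ AddCommGrpCat.free)

/-- The underlying sheaf of sets. -/
abbrev U {Z : Scheme.{u}} (A : EtCoh.Ab Z) : EtDesc.Sh Z :=
  (sheafCompose Z.smallEtaleTopology (forget AddCommGrpCat.{u + 1})).obj A

/-- Every sheaf of sets embeds into its free abelian sheaf. -/
def toFree {Z : Scheme.{u}} (G : EtDesc.Sh Z) : G ⟶ U (freeSh G) :=
  Sheaf.homEquiv.symm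
    (AddCommGrpCat.adj.unit |> fun η₀ => Functor.whiskerLeft G.obj η₀ ≫
      (Functor.associator _ _ _).inv ≫ Functor.whiskerRight
        (toSheafify Z.smallEtaleTopology (G.obj ⋙ AddCommGrpCat.free)) (forget _))

instance mono_toFree {Z : Scheme.{u}} (G : EtDesc.Sh Z) : Mono (toFree G) := by
  refine (sheafToPresheaf _ _).mono_of_mono_map (f := toFree G) ?_
  rw [NatTrans.mono_iff_mono_app]
  intro V
  rw [mono_iff_injective]
  intro s t h
  have hG := ((isSheaf_iff_isSheaf_of_type _ _).1 G.2).isSeparated
  have hsep := hG _ (Presheaf.equalizerSieve_mem Z.smallEtaleTopology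
    (toSheafify Z.smallEtaleTopology (G.obj ⋙ AddCommGrpCat.free))
    (FreeAbelianGroup.of s) (FreeAbelianGroup.of t) h)
  refine hsep.ext fun W g hg => ?_
  refine FreeAbelianGroup.of_injective ?_
  exact hg

end Groth.Agent.Lib.PBC50.SetsExt
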