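import Groth.Agent.Lib.PBC50.ShriekMain

/-!
# Compatibility of the base change of `f_!` with that of `f_*`
-/

set_option autoImplicit false
set_option linter.unusedSectionVars false

universe u

open CategoryTheory CategoryTheory.Limits AlgebraicGeometry Opposite

set_option backward.isDefEq.respectTransparency false

noncomputable section

namespace Groth.Agent.Lib.PBC50.ShriekCompat

open EtShriek Groth.Agent.Lib.EtShriek50

variable {X Y X' Y' : Scheme.{u}} {f : X ⟶ Y} {g : Y' ⟶ Y} {f' : X' ⟶ Y'} {g' : X' ⟶ X}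
  [IsSeparated f] [LocallyOfFiniteType f] [LocallyOfFiniteType f']
  (sq : IsPullback g' f' f g) (F : EtCoh.Ab X)

theorem φ_shι :
    ShriekMain.φ sq F ≫ (EtCoh.push g).map ((Pre.shι f').app ((EtCoh.pull g').obj F)) =
      (Pre.shι f).app F ≫ ShriekMain.pushMap sq F := by
  apply Sheaf.hom_ext
  ext V s
  rfl

theorem bcMap_shι :
    ShriekMain.bcMap sq F ≫ (Pre.shι f').app ((EtCoh.pull g').obj F) =
      (EtCoh.pull g).map ((Pre.shι f).app F) ≫ EtCoh.baseChange0 f g f' g' sq.w F := by
  unfold ShriekMain.bcMap EtCoh.baseChange0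
  rw [← Adjunction.homEquiv_naturality_right_symm, φ_shι, Adjunction.homEquiv_naturality_left_symm]

theorem lowerShriekIso_shι {A B : Scheme.{u}} (h : A ⟶ B) [LocallyOfFiniteType h] (G : EtCoh.Ab A) :
    (Pre.lowerShriekIso h).hom.app G ≫ (Pre.shι h).app G = lowerShriekToPush h G := by
  apply ((sheafificationAdjunction B.smallEtaleTopology AddCommGrpCat.{u + 1}).homEquiv _ _).injective
  refine Eq.trans ?_ (Equiv.apply_symm_apply _ _).symm
  rw [Adjunction.homEquiv_naturality_right]
  have e : ((sheafificationAdjunction B.smallEtaleTopology AddCommGrpCat.{u + 1}).homEquiv _ _)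
      ((Pre.lowerShriekIso h).hom.app G) = 𝟙 (lowerShriekPre h G) := by
    rw [Adjunction.homEquiv_unit]
    exact congrArg (fun m => m) (by
      simp [Pre.lowerShriekIso, sheafificationIso]
      rfl)
  rw [e]
  exact Category.id_comp _

end Groth.Agent.Lib.PBC50.ShriekCompat
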