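import Groth.Agent.Lib.PBC50.ShriekTheta
import Groth.Agent.Lib.EtShriek50.Proper

/-!
# Extending germ functions with proper support through a compactification
-/

set_option autoImplicit false
set_option linter.unusedSectionVars false

universe u

open CategoryTheory CategoryTheory.Limits AlgebraicGeometry Opposite

set_option backward.isDefEq.respectTransparency false

noncomputable section

namespace Groth.Agent.Lib.PBC50.ShriekExtend

open Groth.Agent.Lib.EtSite Groth.Agent.Lib.EtSite.Basic Groth.Agent.Lib.EtSite.PushStalk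
open Groth.Agent.Lib.EtGerm Groth.Agent.Lib.EtGerm.Basic
open EtShriek Groth.Agent.Lib.PBC50.ShriekTheta

/-- Extension by zero of a section from an open piece, along a closed set. -/
theorem exists_extend_closed {X : Scheme.{u}} (F : EtCoh.Ab X) {C W : X.Etale} (o : C ⟶ W)
    [IsOpenImmersion o.left] (s : EtCoh.sect F C) (A : Set C.left) (hA : sectSupp F C s ⊆ A)
    (hc : IsClosed (o.left.base '' A)) :
    ∃ t : EtCoh.sect F W, F.obj.map o.op t = s ∧ sectSupp F W t ⊆ o.left.base '' A := by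
  classical
  let Oc : W.left.Opens := ⟨(o.left.base '' A)ᶜ, hc.isOpen_compl⟩
  have : Etale W.hom := W.prop
  let C' : X.Etale := MorphismProperty.Over.mk ⊤ (Oc.ι ≫ W.hom) (show Etale _ from inferInstance)
  let o' : C' ⟶ W := MorphismProperty.Over.homMk Oc.ι rfl
  let D : Bool → X.Etale := fun i => bif i then C else C'
  let oo : ∀ i, D i ⟶ W := fun i => match i with
    | true => o
    | false => o'
  let fam : ∀ i, EtCoh.sect F (D i) := fun i => match i with
    | true => s
    | false => (0 : EtCoh.sect F C')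
  have hcov : ∀ x : W.left, ∃ (i : Bool) (d : (D i).left), (oo i).left.base d = x := fun x => by
    by_cases hx : x ∈ o.left.base '' A
    · obtain ⟨d, -, hd⟩ := hx
      exact ⟨true, d, hd⟩
    · exact ⟨false, ⟨x, hx⟩, rfl⟩
  have zero : ∀ {Z : X.Etale} (g : Z ⟶ C) (g' : Z ⟶ C'), g ≫ o = g' ≫ o' →
      F.obj.map g.op s = 0 := fun {Z} g g' e => by
    refine EtShriek50.Supp.eq_zero_of_sectSupp ?_
    rw [EtShriek50.Supp.sectSupp_map]
    refine Set.eq_empty_iff_forall_notMem.2 fun z hz => ?_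
    exact (g'.left.base z).2 ⟨_, hA hz, congrArg (fun m : Z ⟶ W => m.left.base z) e⟩
  have hS := (Presieve.isSheafFor_arrows_iff (F.obj ⋙ forget AddCommGrpCat.{u + 1}) oo).1
    ((Presieve.isSheafFor_iff_generate _).2
      (((isSheaf_iff_isSheaf_of_type _ _).1 (Presheaf.isSheaf_comp_of_isSheaf _ F.obj
        (forget AddCommGrpCat.{u + 1}) F.property)) _ (ofArrows_mem D oo hcov)))
  have : Mono o := by
    refine ⟨fun a b e => MorphismProperty.Over.Hom.ext ((cancel_mono o.left).1 ?_)⟩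
    exact congrArg (fun m => CommaMorphism.left m.hom) e
  have : Mono o' := by
    refine ⟨fun a b e => MorphismProperty.Over.Hom.ext ((cancel_mono Oc.ι).1 ?_)⟩
    exact congrArg (fun m => CommaMorphism.left m.hom) e
  obtain ⟨t, ht, -⟩ := hS fam fun i k Z gi gk e => by
    match i, k, gi, gk, e with
    | true, true, gi, gk, e => rw [(cancel_mono o).1 e]
    | false, false, gi, gk, e => rw [(cancel_mono o').1 e]
    | true, false, gi, gk, e => exact (zero gi gk e).trans (map_zero (F.obj.map gk.op).hom).symm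
    | false, true, gi, gk, e => exact (map_zero (F.obj.map gi.op).hom).trans (zero gk gi e.symm).symm
  refine ⟨t, ht true, fun x hx => ?_⟩
  by_contra hn
  exact hx C' o' ⟨⟨x, hn⟩, rfl⟩ (ht false)

variable {X Y Q U Xc Y₀ : Scheme.{u}} {f : X ⟶ Y} [IsSeparated f] [LocallyOfFiniteType f]
  {Ω : Type u} [Field Ω] [IsSepClosed Ω]
  {η : Spec (CommRingCat.of Ω) ⟶ Y} {a : Q ⟶ X} {b : Q ⟶ Spec (CommRingCat.of Ω)}
  (h : IsPullback a b f η) (F : EtCoh.Ab X)
  (ι : U ⟶ X) [IsOpenImmersion ι] (j : U ⟶ Xc) [IsOpenImmersion j] (fb : Xc ⟶ Y₀) [IsProper fb]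
  (k : Y₀ ⟶ Y) [IsOpenImmersion k] (hfac : j ≫ fb ≫ k = ι ≫ f)
  {η₀ : Spec (CommRingCat.of Ω) ⟶ Y₀} (hη : η₀ ≫ k = η)
  (τ : sect F (Over.mk a))

/-- The fibre of the compactification. -/
abbrev Qb (η₀ : Spec (CommRingCat.of Ω) ⟶ Y₀) : Scheme.{u} := pullback fb η₀

include hfac hη in
theorem fibre_comm {T : Scheme.{u}} (l : T ⟶ U) {l' : T ⟶ Xc} (hl : l ≫ j = l')
    (m : T ⟶ Qb fb η₀) (hm : m ≫ pullback.fst fb η₀ = l') :
    (l ≫ ι) ≫ f = (m ≫ pullback.snd fb η₀) ≫ η := by
  rw [Category.assoc, ← hfac, reassoc_of% hl, ← hm, Category.assoc, Category.assoc,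
    pullback.condition_assoc, hη]

/-- The lift of a point of the fibre of the compactification to the fibre. -/
def toQ {T : Scheme.{u}} (l : T ⟶ U) {l' : T ⟶ Xc} (hl : l ≫ j = l') (m : T ⟶ Qb fb η₀)
    (hm : m ≫ pullback.fst fb η₀ = l') : T ⟶ Q :=
  h.lift (l ≫ ι) (m ≫ pullback.snd fb η₀) (fibre_comm ι j fb k hfac hη l hl m hm)

theorem toQ_a {T : Scheme.{u}} (l : T ⟶ U) {l' : T ⟶ Xc} (hl : l ≫ j = l') (m : T ⟶ Qb fb η₀)
    (hm : m ≫ pullback.fst fb η₀ = l') :
    toQ h ι j fb k hfac hη l hl m hm ≫ a = l ≫ ι :=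
  h.lift_fst _ _ _

open scoped Classical in
/-- The germ function extended by zero. -/
def τbar : Germs (G ι j F) (Over.mk (pullback.fst fb η₀)) := fun x =>
  if hx : Set.range x.η.base ⊆ Set.range j.base then
    θ ι j F (rfl : IsOpenImmersion.lift j x.η hx ≫ ι = _) (IsOpenImmersion.lift_fac j x.η hx)
      (τ.1 ⟨x.Ω, IsOpenImmersion.lift j x.η hx ≫ ι,
        toQ h ι j fb k hfac hη _ (IsOpenImmersion.lift_fac j x.η hx) x.ξ x.comm,
        toQ_a h ι j fb k hfac hη _ _ _ _⟩)
  else 0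

theorem τbar_eq (x : GPt (Over.mk (pullback.fst fb η₀))) (ξU : Spec (CommRingCat.of x.Ω) ⟶ U)
    (hξ : ξU ≫ j = x.η) :
    τbar h F ι j fb k hfac hη τ x = θ ι j F (rfl : ξU ≫ ι = _) hξ
      (τ.1 ⟨x.Ω, ξU ≫ ι, toQ h ι j fb k hfac hη ξU hξ x.ξ x.comm,
        toQ_a h ι j fb k hfac hη _ _ _ _⟩) := by
  have hx : Set.range x.η.base ⊆ Set.range j.base := by
    rintro _ ⟨y, rfl⟩
    exact ⟨ξU.base y, congrArg (fun m : Spec _ ⟶ Xc => m.base y) hξ⟩
  obtain rfl : ξU = IsOpenImmersion.lift j x.η hx := by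
    rw [← cancel_mono j, hξ, IsOpenImmersion.lift_fac]
  exact dif_pos hx

/-- A fibre point of the composite with an open immersion. -/
def ptComp (V : Y₀.Etale) (p : (Scheme.pointSmallEtale η₀).fiber.obj V) :
    (Scheme.pointSmallEtale η).fiber.obj ((compEtale k).obj V) :=
  mkFiber η _ (fiberHom p : Spec (CommRingCat.of Ω) ⟶ V.left)
    ((Category.assoc _ _ _).symm.trans
      ((congrArg (fun m => m ≫ k) (fiberHom_comp p)).trans hη))

variable (C : Set Q) (hC : ClSub.IsProperOver b C)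
  (hτ : ∀ x : GPt (Over.mk a), x.ξ.base default ∉ C → τ.1 x = 0)
  (hCU : ∀ z ∈ C, a.base z ∈ Set.range ι.base)

include h hfac hη hC hCU in
/-- The closed image of the support in the compactified fibre. -/
theorem exists_closed :
    ∃ D : Set (Qb fb η₀), IsClosed D ∧
      (∀ d ∈ D, (pullback.fst fb η₀).base d ∈ Set.range j.base) ∧
      ∀ {T : Scheme.{u}} (l : T ⟶ U) {l' : T ⟶ Xc} (hl : l ≫ j = l') (m : T ⟶ Qb fb η₀)
        (hm : m ≫ pullback.fst fb η₀ = l') (z : T),
        (toQ h ι j fb k hfac hη l hl m hm).base z ∈ C → m.base z ∈ D := by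
  obtain ⟨hc, hp⟩ := hC
  let i := (ZarCoh.ProperOver.red ⟨C, hc⟩).subschemeι
  have : IsProper (i ≫ b) := hp
  have hr : Set.range i.base = C := ZarCoh.ProperOver.range_red ⟨C, hc⟩
  have hiU : Set.range (i ≫ a).base ⊆ Set.range ι.base := by
    rintro _ ⟨t, rfl⟩
    exact hCU _ (hr.le ⟨t, rfl⟩)
  let iU := IsOpenImmersion.lift ι (i ≫ a) hiU
  have hiU' : iU ≫ ι = i ≫ a := IsOpenImmersion.lift_fac _ _ _
  let m₀ : _ ⟶ Qb fb η₀ := pullback.lift (iU ≫ j) (i ≫ b) (by
    rw [← cancel_mono k]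
    simp only [Category.assoc]
    rw [hfac, reassoc_of% hiU', hη, h.w])
  have : IsProper (m₀ ≫ pullback.snd fb η₀) := by rw [pullback.lift_snd]; infer_instance
  have : IsProper m₀ := MorphismProperty.of_postcomp (W' := @IsSeparated) @IsProper m₀
    (pullback.snd fb η₀) inferInstance ‹_›
  refine ⟨Set.range m₀.base, m₀.isClosedMap.isClosed_range, ?_, fun {T} l {l'} hl m hm z hz => ?_⟩
  · rintro _ ⟨t, rfl⟩
    exact ⟨iU.base t, (congr($(pullback.lift_fst (f := fb) (g := η₀) (iU ≫ j) (i ≫ b) _) t)).symm⟩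
  · obtain ⟨t, ht⟩ := hr.ge hz
    let q := toQ h ι j fb k hfac hη l hl m hm
    obtain ⟨w, hw₁, hw₂⟩ := Scheme.Pullback.exists_preimage_pullback (f := i) (g := q) t z ht
    refine ⟨t, ?_⟩
    have e : pullback.fst i q ≫ m₀ = pullback.snd i q ≫ m := by
      have hu : pullback.fst i q ≫ iU = pullback.snd i q ≫ l := by
        rw [← cancel_mono ι, Category.assoc, hiU', Category.assoc, ← toQ_a h ι j fb k hfac hη l hl m hm,
          pullback.condition_assoc]
      apply pullback.hom_ext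
      · rw [Category.assoc, pullback.lift_fst, reassoc_of% hu, Category.assoc, hm, hl]
      · rw [Category.assoc, pullback.lift_snd, pullback.condition_assoc, Category.assoc]
        exact congrArg (pullback.snd i q ≫ ·) (h.lift_snd _ _ _)
    rw [← hw₁, ← hw₂]
    exact congr($e w)

include hC hτ hCU in
theorem isLocRep_τbar : IsLocRep (G ι j F) (τbar h F ι j fb k hfac hη τ) := by
  obtain ⟨D, hD, hDj, hDC⟩ := exists_closed h ι j fb k hfac hη C hC hCU
  intro t
  by_cases ht : t ∈ D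
  · obtain ⟨u, hu⟩ := hDj t ht
    let ā := pullback.fst fb η₀
    obtain ⟨z, hz, -⟩ := Scheme.Pullback.exists_preimage_pullback (f := ā) (g := j) t u hu.symm
    let m := pullback.fst ā j
    let l := pullback.snd ā j
    let ψ := toQ h ι j fb k hfac hη l pullback.condition.symm m rfl
    obtain ⟨V, c, hc, W, bb, hb, s, ⟨v, hv⟩, hrep⟩ := τ.2 (ψ.base z)
    obtain ⟨z', -, hz'⟩ := Scheme.Pullback.exists_preimage_pullback (f := c) (g := ψ) v z hv
    have : Etale c := hc
    have hbb : (pullback.fst c ψ ≫ bb) ≫ W.hom = (pullback.snd c ψ ≫ l) ≫ ι := by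
      rw [Category.assoc, hb, pullback.condition_assoc, Category.assoc]
      exact congrArg (pullback.snd c ψ ≫ ·) (toQ_a h ι j fb k hfac hη _ _ _ _)
    refine ⟨pullback c ψ, pullback.snd c ψ ≫ m, inferInstanceAs (Etale (_ ≫ _)),
      (compEtale j).obj ((EtCoh.bc ι).obj W),
      pullback.lift (pullback.fst c ψ ≫ bb) (pullback.snd c ψ ≫ l) hbb, ?_, α ι j F W s,
      ⟨z', (congrArg m.base hz').trans hz⟩, fun Ω' _ _ η' ξ hξ w hw => ?_⟩
    · refine (Category.assoc _ _ _).symm.trans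
        ((congrArg (· ≫ j) (pullback.lift_snd _ _ _)).trans ?_)
      change (pullback.snd c ψ ≫ l) ≫ j = (pullback.snd c ψ ≫ m) ≫ ā
      rw [Category.assoc, ← pullback.condition, Category.assoc]
    · have hU : (w ≫ pullback.snd c ψ ≫ l) ≫ j = η' := by
        rw [← hξ, ← hw]
        change (w ≫ pullback.snd c ψ ≫ l) ≫ j = (w ≫ pullback.snd c ψ ≫ m) ≫ ā
        simp only [Category.assoc, l, m, pullback.condition]
      rw [τbar_eq h F ι j fb k hfac hη τ ⟨Ω', η', ξ, hξ⟩ _ hU]
      have hq : (w ≫ pullback.fst c ψ) ≫ c =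
          toQ h ι j fb k hfac hη (w ≫ pullback.snd c ψ ≫ l) hU ξ hξ := by
        apply h.hom_ext
        · rw [toQ_a]
          simp only [Category.assoc]
          rw [pullback.condition_assoc, toQ_a]
        · rw [toQ, h.lift_snd]
          simp only [Category.assoc]
          rw [pullback.condition_assoc]
          erw [h.lift_snd]
          rw [← hw]
          simp only [Category.assoc]
      rw [hrep Ω' _ _ _ (w ≫ pullback.fst c ψ) hq, θ_germ]
      refine congrArg (fun r => germ (G ι j F) η' _ r (α ι j F W s)) (Over.OverMorphism.ext ?_)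
      apply pullback.hom_ext
      · refine (pullback.lift_fst _ _ _).trans ?_
        refine ((Category.assoc _ _ _).trans ((w ≫= pullback.lift_fst _ _ _).trans ?_)).symm
        exact (Category.assoc _ _ _).symm
      · refine (pullback.lift_snd _ _ _).trans ?_
        exact ((Category.assoc _ _ _).trans (w ≫= pullback.lift_snd _ _ _)).symm
  · let O : (Qb fb η₀).Opens := ⟨Dᶜ, hD.isOpen_compl⟩
    refine ⟨O, O.ι, inferInstance, EtCoh.top Xc, O.ι ≫ pullback.fst fb η₀, Category.comp_id _, 0,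
      ⟨⟨t, ht⟩, rfl⟩, fun Ω' _ _ η' ξ hξ w hw => ?_⟩
    rw [map_zero]
    have hpt : ξ.base default ∉ D := by
      rw [← hw]
      exact (w.base default).2
    unfold τbar
    split_ifs with hx
    · rw [hτ _ fun hmem => hpt (hDC (IsOpenImmersion.lift j η' hx) (IsOpenImmersion.lift_fac j η' hx) ξ hξ default hmem), map_zero]
    · rfl

include hC hτ hCU hη in
/-- The germ function comes from the stalk. -/
theorem exists_Θs (hfac : j ≫ fb ≫ k = ι ≫ f) :
    ∃ z, ShriekFibre.Θs f h.w F z = τ.1 := by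
  obtain ⟨z₀, hz₀⟩ := (Stalk.bijective_toSect (f := fb) (F := G ι j F)
    (IsPullback.of_hasPullback fb η₀)).2 ⟨_, isLocRep_τbar h F ι j fb k hfac hη τ C hC hτ hCU⟩
  obtain ⟨V, p, t, rfl⟩ := exists_germ _ z₀
  have ht := congrArg Subtype.val hz₀
  have hsupp := (EtShriek50.Comp.mem_comp_iff j (FU ι F) fb V t).1
    (EtShriek50.Proper.mem fb (G ι j F) V t)
  let M : U.Etale := (EtCoh.bc j).obj ((EtCoh.bc fb).obj V)
  let V₁ : Y.Etale := (compEtale k).obj V
  let p₁ : (Scheme.pointSmallEtale η).fiber.obj V₁ := ptComp k hη V p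
  let prM : M.left ⟶ V.left := prV j ((EtCoh.bc fb).obj V) ≫ prV fb V
  let sM : M.left ⟶ U := pullback.snd ((EtCoh.bc fb).obj V).hom j
  have hM : prM ≫ V.hom ≫ k = (sM ≫ ι) ≫ f := by
    refine (Category.assoc _ _ _).trans ?_
    refine (congrArg (_ ≫ ·) ((Category.assoc _ _ _).symm.trans
      ((congrArg (· ≫ k) (pullback.condition (f := V.hom) (g := fb))).trans (Category.assoc _ _ _)))).trans ?_
    refine (Category.assoc _ _ _).symm.trans ?_
    refine (congrArg (· ≫ fb ≫ k) (pullback.condition (f := ((EtCoh.bc fb).obj V).hom) (g := j))).trans ?_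
    rw [Category.assoc, hfac, Category.assoc]
  let ol : M.left ⟶ pullback V₁.hom f := pullback.lift prM (sM ≫ ι) hM
  let o : (compEtale ι).obj M ⟶ (EtCoh.bc f).obj V₁ :=
    MorphismProperty.Over.homMk ol (pullback.lift_snd _ _ _)
  have : Mono ol := ⟨fun {T} g₁ g₂ e => by
    have e₁ := congrArg (· ≫ pullback.fst V₁.hom f) e
    have e₂ := congrArg (· ≫ pullback.snd V₁.hom f) e
    simp only [Category.assoc, ol, pullback.lift_fst, pullback.lift_snd] at e₁ e₂
    rw [← Category.assoc, ← Category.assoc g₂, cancel_mono] at e₂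
    apply pullback.hom_ext
    · apply pullback.hom_ext
      · simpa only [Category.assoc] using e₁
      · have c := pullback.condition (f := ((EtCoh.bc fb).obj V).hom) (g := j)
        change (g₁ ≫ prV j _) ≫ ((EtCoh.bc fb).obj V).hom = (g₂ ≫ prV j _) ≫ ((EtCoh.bc fb).obj V).hom
        simp only [Category.assoc]
        erw [c]
        rw [← Category.assoc, ← Category.assoc g₂]
        exact congrArg (· ≫ j) e₂
    · exact e₂⟩
  have : IsOpenImmersion o.left := by
    have : Etale ol := Fiber.etale_left o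
    exact IsOpenImmersion.of_flat_of_mono ol
  let A : Set M.left := sectSupp (FU ι F) M t.1
  have hA : sectSupp F ((compEtale ι).obj M) t.1 ⊆ A := fun x hx W g ⟨w, hw⟩ hg =>
    hx ((compEtale ι).obj W) ((compEtale ι).map g) ⟨w, hw⟩ hg
  have : LocallyOfFiniteType (prV f V₁) := inferInstance
  have himg : ClSub.IsProperOver (prV f V₁) (ol.base '' A) := by
    refine ZarCoh.ProperOver.isProperOver_image prM (prV f V₁) ol (pullback.lift_fst _ _ _) hsupp ?_
    intro T i' _ hi'
    have : IsProper (i' ≫ ol) :=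
      MorphismProperty.of_postcomp (W' := @IsSeparated) @IsProper _ (prV f V₁) inferInstance
        (by rw [Category.assoc, pullback.lift_fst]; exact hi')
    infer_instance
  obtain ⟨hclosed, -⟩ := id himg
  obtain ⟨σ, hσ, hσs⟩ := exists_extend_closed F o t.1 A hA hclosed
  have hmem : σ ∈ shriekSubgroup f F V₁ := (EtShriek50.Pre.mem_iff' f F V₁ σ).2
    (ZarCoh.ProperOver.isProperOver_of_subset (prV f V₁) himg
      (EtShriek50.Supp.isClosed_sectSupp F _ σ) hσs)
  refine ⟨germ (EtShriek50.Pre.sh f F) η V₁ p₁ ⟨σ, hmem⟩, funext fun x => ?_⟩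
  obtain ⟨Ω', η', ξ, hx⟩ := x
  refine (ShriekFibre.Θs_germ f h.w F V₁ p₁ ⟨σ, hmem⟩ _).trans ?_
  by_cases hU : Set.range η'.base ⊆ Set.range ι.base
  · obtain ⟨ξU, rfl⟩ : ∃ ξU, ξU ≫ ι = η' := ⟨_, IsOpenImmersion.lift_fac ι η' hU⟩
    have hx' : ξ ≫ a = ξU ≫ ι := hx
    let mb : Spec (CommRingCat.of Ω') ⟶ Qb fb η₀ := pullback.lift (ξU ≫ j) (ξ ≫ b) (by
      rw [← cancel_mono k]
      simp only [Category.assoc]
      rw [hfac, ← reassoc_of% hx', hη, h.w])
    have hmb : mb ≫ pullback.fst fb η₀ = ξU ≫ j := pullback.lift_fst _ _ _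
    have hq : toQ h ι j fb k hfac hη ξU rfl mb hmb = ξ := by
      apply h.hom_ext
      · rw [toQ_a, hx']
      · rw [toQ, h.lift_snd, pullback.lift_snd]
    apply θ_injective ι j F (rfl : ξU ≫ ι = _) (rfl : ξU ≫ j = _)
    refine Eq.trans ?_ ((congrFun ht ⟨Ω', ξU ≫ j, mb, hmb⟩).trans
      ((τbar_eq h F ι j fb k hfac hη τ ⟨Ω', ξU ≫ j, mb, hmb⟩ ξU rfl).trans
        (congrArg (θ ι j F rfl rfl) (Glue.germs_congr F τ.1 hq _ _))))
    refine Eq.trans ?_ (Stalk.Θ_germ fb _ (G ι j F) V p t ⟨Ω', ξU ≫ j, mb, hmb⟩).symm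
    apply ev_injective ι j F (rfl : ξU ≫ j = _)
    rw [ev_θ_germ, ev_germ]
    let ô : M ⟶ (EtCoh.bc ι).obj ((EtCoh.bc f).obj V₁) :=
      (EtJ.Basic.compEtaleAdj ι).homEquiv _ _ o
    have ho : (compEtale ι).map ô ≫ cW ι ((EtCoh.bc f).obj V₁) = o :=
      ((EtJ.Basic.compEtaleAdj ι).homEquiv_counit _ _ ô).symm.trans (Equiv.symm_apply_apply _ _)
    have eM : t.1 = (FU ι F).obj.map ô.op (F.obj.map (cW ι ((EtCoh.bc f).obj V₁)).op σ) := by
      rw [← hσ, ← ho, op_comp, Functor.map_comp]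
      rfl
    rw [eM]
    refine Eq.trans ?_ (germ_map (FU ι F) ξU ô _ _).symm
    refine congrArg (fun r => germ (FU ι F) ξU _ r (F.obj.map (cW ι ((EtCoh.bc f).obj V₁)).op σ))
      (Over.OverMorphism.ext ?_)
    apply pullback.hom_ext
    · refine (pullback.lift_fst _ _ _).trans ?_
      refine Eq.trans ?_ ((Category.assoc _ _ _).trans (_ ≫= congrArg (fun q => q.left) ho :)).symm
      apply pullback.hom_ext
      · refine (pullback.lift_fst _ _ _).trans ?_
        refine ((Category.assoc _ _ _).trans ((_ ≫= pullback.lift_fst _ _ _).trans ?_)).symm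
        refine (Category.assoc _ _ _).symm.trans
          ((congrArg (· ≫ prV fb V) (pullback.lift_fst _ _ _)).trans ?_)
        refine (pullback.lift_fst _ _ _).trans ?_
        change (mb ≫ pullback.snd fb η₀) ≫ fiberHom p = (ξ ≫ b) ≫ fiberHom p
        rw [pullback.lift_snd]
      · refine (pullback.lift_snd _ _ _).trans ?_
        refine ((Category.assoc _ _ _).trans ((_ ≫= pullback.lift_snd _ _ _).trans ?_)).symm
        exact (Category.assoc _ _ _).symm.trans (congrArg (· ≫ ι) (pullback.lift_snd _ _ _))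
    · refine (pullback.lift_snd _ _ _).trans ?_
      refine ((Category.assoc _ _ _).trans ((_ ≫= Over.w ô.hom).trans ?_)).symm
      exact pullback.lift_snd _ _ _
  · have hd : η'.base default ∉ Set.range ι.base := fun hd => hU (by
      rintro _ ⟨y, rfl⟩
      rw [Subsingleton.elim y default]
      exact hd)
    rw [hτ _ fun hmem' => hd (by
      rw [← hx]
      exact hCU _ hmem')]
    rw [EtShriek50.Supp.germ_eq_zero_iff]
    intro hs
    obtain ⟨w, -, hw⟩ := hσs hs
    refine hd ⟨sM.base w, ?_⟩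
    refine (congr($(pullback.lift_snd (f := V₁.hom) (g := f) prM (sM ≫ ι) hM) w)).symm.trans
      ((congrArg (pullback.snd V₁.hom f).base hw).trans ?_)
    exact congrArg (fun q : Spec (CommRingCat.of Ω') ⟶ X => q.base default)
      (pullback.lift_snd _ _ _)

end Groth.Agent.Lib.PBC50.ShriekExtend
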