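import Groth.Agent.Lib.PBC50.Stalk
import Groth.Agent.Lib.EtShriek50.Stalk

/-!
# Proper supports on geometric fibres
-/

set_option autoImplicit false
set_option linter.unusedSectionVars false

universe u

open CategoryTheory CategoryTheory.Limits AlgebraicGeometry Opposite

set_option backward.isDefEq.respectTransparency false

noncomputable section

namespace Groth.Agent.Lib.PBC50.ShriekFibre

open Groth.Agent.Lib.EtSite Groth.Agent.Lib.EtSite.Basic Groth.Agent.Lib.EtSite.PushStalk
open Groth.Agent.Lib.EtGerm Groth.Agent.Lib.EtGerm.Basic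
open EtShriek
open Groth.Agent.Lib.EtShriek50 (Pre.sh Pre.shι Pre.mem_iff' Supp.germ_eq_zero_iff
  Supp.sectSupp_map Supp.eq_zero_of_sectSupp)

variable {X Y Q : Scheme.{u}} (f : X ⟶ Y) [LocallyOfFiniteType f] {Ω : Type u} [Field Ω]
  [IsSepClosed Ω] {η : Spec (CommRingCat.of Ω) ⟶ Y} {a : Q ⟶ X}
  {b : Q ⟶ Spec (CommRingCat.of Ω)}

section

variable (w : a ≫ f = b ≫ η) (F : EtCoh.Ab X)

/-- The inclusion on stalks. -/
def incl : Stk (EtShriek50.Pre.sh f F) η →+ Stk ((EtCoh.push f).obj F) η :=
  ((EtCoh.stalk η).map ((EtShriek50.Pre.shι f).app F)).hom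

theorem incl_germ (V : Y.Etale) (p : (Scheme.pointSmallEtale η).fiber.obj V)
    (s : EtCoh.sect (EtShriek50.Pre.sh f F) V) :
    incl f F (germ (EtShriek50.Pre.sh f F) η V p s) = germ ((EtCoh.push f).obj F) η V p s.1 :=
  (Scheme.pointSmallEtale η).toPresheafFiber_naturality_apply (lowerShriekPreι f F) V p s

/-- The germ function of an element of the stalk. -/
def Θs : Stk (EtShriek50.Pre.sh f F) η →+ Germs F (Over.mk a) :=
  (Stalk.Θ f w F).comp (incl f F)

theorem Θs_germ (V : Y.Etale) (p : (Scheme.pointSmallEtale η).fiber.obj V)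
    (s : EtCoh.sect (EtShriek50.Pre.sh f F) V) (x : GPt (Over.mk a)) :
    Θs f w F (germ (EtShriek50.Pre.sh f F) η V p s) x =
      germ F x.η ((EtCoh.bc f).obj V)
        (liftPt f rfl V (extPt (x.ξ ≫ b) (Stalk.comm_aux f w x.comm) V p)) s.1 := by
  refine Eq.trans ?_ (Stalk.Θ_germ f w F V p s.1 x)
  change Stalk.Θ f w F (incl f F _) x = _
  rw [incl_germ]

theorem isLocRep_Θs (z : Stk (EtShriek50.Pre.sh f F) η) : IsLocRep F (Θs f w F z) :=
  Stalk.isLocRep_Θ f w F _

/-- The map of the fibre to the base change of a neighbourhood. -/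
def mPt (V : Y.Etale) (p : (Scheme.pointSmallEtale η).fiber.obj V) : Q ⟶ pullback V.hom f :=
  pullback.lift (b ≫ fiberHom p) a (by
    rw [Category.assoc, w]; exact congrArg (b ≫ ·) (fiberHom_comp p))

theorem fiberPt_extPt_liftPt (V : Y.Etale) (p : (Scheme.pointSmallEtale η).fiber.obj V)
    (x : GPt (Over.mk a)) :
    fiberPt (liftPt f rfl V (extPt (x.ξ ≫ b) (Stalk.comm_aux f w x.comm) V p)) =
      (mPt f w V p).base (x.ξ.base default) := by
  have e : pullback.lift (fiberHom (extPt (x.ξ ≫ b) (Stalk.comm_aux f w x.comm) V p)) x.η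
      (fiberHom_comp _) = x.ξ ≫ mPt f w V p := by
    apply pullback.hom_ext
    · refine (pullback.lift_fst _ _ _).trans ?_
      rw [Category.assoc, mPt, pullback.lift_fst, ← Category.assoc]
      rfl
    · refine (pullback.lift_snd _ _ _).trans ?_
      rw [Category.assoc, mPt, pullback.lift_snd]
      exact x.comm.symm
  exact congrArg (fun m : Spec (CommRingCat.of x.Ω) ⟶ pullback V.hom f => m.base default) e

theorem Θs_eq_zero_iff (V : Y.Etale) (p : (Scheme.pointSmallEtale η).fiber.obj V)
    (s : EtCoh.sect (EtShriek50.Pre.sh f F) V) (x : GPt (Over.mk a)) :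
    Θs f w F (germ (EtShriek50.Pre.sh f F) η V p s) x = 0 ↔
      (mPt f w V p).base (x.ξ.base default) ∉ sectSupp F ((EtCoh.bc f).obj V) s.1 := by
  rw [Θs_germ, EtShriek50.Supp.germ_eq_zero_iff, fiberPt_extPt_liftPt]

/-- Germ functions with proper support. -/
def PS (τ : Germs F (Over.mk a)) (b : Q ⟶ Spec (CommRingCat.of Ω)) : Prop :=
  ∃ C : Set Q, ClSub.IsProperOver b C ∧ ∀ x : GPt (Over.mk a), x.ξ.base default ∉ C → τ x = 0

end

variable {f} (h : IsPullback a b f η) (F : EtCoh.Ab X)

include h in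
theorem injective_Θs : Function.Injective (Θs f h.w F) := by
  refine (injective_iff_map_eq_zero _).2 fun z hz => ?_
  obtain ⟨V, p, s, rfl⟩ := exists_germ _ z
  have hs := (EtShriek50.Pre.mem_iff' f F V s.1).1 s.2
  let D : Set V.left := (prV f V).base '' sectSupp F ((EtCoh.bc f).obj V) s.1
  have hD : IsClosed D := EtShriek50.Stalk.isClosed_image _ hs
  have hp : fiberPt p ∉ D := by
    rintro ⟨w, hw, hwp⟩
    obtain ⟨z, hz1, -⟩ := Scheme.Pullback.exists_preimage_pullback (f := pullback.fst V.hom f)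
      (g := fiberHom p) w default hwp
    let r : pullback (pullback.fst V.hom f) (fiberHom p) ⟶ Q :=
      h.lift (pullback.fst _ _ ≫ pullback.snd V.hom f) (pullback.snd _ _) (by
        rw [Category.assoc, ← pullback.condition, ← Category.assoc, pullback.condition,
          Category.assoc]
        exact congrArg (pullback.snd _ _ ≫ ·) (fiberHom_comp p))
    have e : r ≫ mPt f h.w V p = pullback.fst (pullback.fst V.hom f) (fiberHom p) := by
      refine pullback.hom_ext ?_ ?_
      · rw [Category.assoc, mPt, pullback.lift_fst, h.lift_snd_assoc]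
        exact pullback.condition.symm
      · rw [Category.assoc, mPt, pullback.lift_snd, h.lift_fst]
    let ξ := Push.algPoint Q (r.base z)
    refine (Θs_eq_zero_iff f h.w F V p s ⟨_, ξ ≫ a, ξ, rfl⟩).1 (congrFun hz _) ?_
    refine Set.mem_of_eq_of_mem ?_ hw
    refine (congrArg (mPt f h.w V p).base (Push.algPoint_apply Q (r.base z) default)).trans ?_
    exact (congrArg (fun m : pullback (pullback.fst V.hom f) (fiberHom p) ⟶ pullback V.hom f =>
      m.base z) e).trans hz1
  let W : V.left.Opens := ⟨Dᶜ, hD.isOpen_compl⟩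
  have : Etale V.hom := V.prop
  let V' : Y.Etale := Scheme.Etale.mk (W.ι ≫ V.hom)
  let o : V' ⟶ V := MorphismProperty.Over.homMk W.ι rfl
  obtain ⟨p', hp', -⟩ := Fiber.exists_fiber_map η o p ⟨fiberPt p, hp⟩ rfl
  have hzero : (EtShriek50.Pre.sh f F).obj.map o.op s = 0 := by
    refine Subtype.ext (EtShriek50.Supp.eq_zero_of_sectSupp ?_)
    change sectSupp F _ (F.obj.map ((EtCoh.bc f).map o).op s.1) = ∅
    rw [EtShriek50.Supp.sectSupp_map]
    refine Set.eq_empty_iff_forall_notMem.2 fun w hw => ?_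
    refine ((prV f V').base w).2 ⟨_, hw, ?_⟩
    exact congrArg (fun m => m.base w) (EtCoh.isPullback_bc_map f o).w
  rw [← hp', ← germ_map, hzero, map_zero]

include h in
theorem ps_Θs (z : Stk (EtShriek50.Pre.sh f F) η) : PS F (Θs f h.w F z) b := by
  obtain ⟨V, p, s, rfl⟩ := exists_germ _ z
  have : LocallyOfFiniteType b := MorphismProperty.of_isPullback (P := @LocallyOfFiniteType) h ‹_›
  refine ⟨(mPt f h.w V p).base ⁻¹' sectSupp F ((EtCoh.bc f).obj V) s.1, ?_, fun x hx =>
    (Θs_eq_zero_iff f h.w F V p s x).2 hx⟩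
  have sq : IsPullback (mPt f h.w V p) b (pullback.fst V.hom f) (fiberHom p) := by
    refine IsPullback.of_right ?_ (pullback.lift_fst _ _ _) (IsPullback.of_hasPullback V.hom f).flip
    rw [mPt, pullback.lift_snd]
    erw [fiberHom_comp p]
    exact h
  refine ZarCoh.ProperOver.isProperOver_preimage (prV f V) (mPt f h.w V p) b
    ((EtShriek50.Pre.mem_iff' f F V s.1).1 s.2) fun i hi => ?_
  exact MorphismProperty.of_isPullback
    ((IsPullback.of_hasPullback (mPt f h.w V p) i).flip.paste_vert sq) hi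

end Groth.Agent.Lib.PBC50.ShriekFibre
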