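import Groth.Agent.Lib.PBC50.ShriekExtend
import Groth.Agent.Lib.PBC50.ToF
import Groth.Agent.Lib.PBC50.BC
import Groth.Agent.S0384

/-!
# Stalks and base change of the direct image with proper support
-/

set_option autoImplicit false
set_option linter.unusedSectionVars false

universe u

open CategoryTheory CategoryTheory.Limits AlgebraicGeometry Opposite

set_option backward.isDefEq.respectTransparency false

noncomputable section

namespace Groth.Agent.Lib.PBC50.ShriekMain

open Groth.Agent.Lib.EtSite Groth.Agent.Lib.EtSite.Basic Groth.Agent.Lib.EtSite.PushStalk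
open Groth.Agent.Lib.EtGerm Groth.Agent.Lib.EtGerm.Basic
open EtShriek
open Groth.Agent.Lib.EtSubmersive.Basic (germUnit bijective_germUnit germUnit_germ)

theorem exists_compact_open {X : Scheme.{u}} {K : Set X} (hK : IsCompact K) (O : X.Opens)
    (hKO : K ⊆ O) : ∃ U : X.Opens, IsCompact (U : Set X) ∧ K ⊆ U ∧ U ≤ O := by
  choose V hV hxV hVO using fun x : K =>
    exists_isAffineOpen_mem_and_subset (X := X) (U := O) (hKO x.2)
  obtain ⟨t, ht⟩ := hK.elim_finite_subcover (fun x : K => (V x : Set X)) (fun x => (V x).2)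
    (fun x hx => Set.mem_iUnion.2 ⟨⟨x, hx⟩, hxV ⟨x, hx⟩⟩)
  refine ⟨⟨⋃ x ∈ t, (V x : Set X), isOpen_biUnion fun x _ => (V x).2⟩,
    t.finite_toSet.isCompact_biUnion fun x _ => (hV x).isCompact, ht, fun y hy => ?_⟩
  obtain ⟨x, -, hyx⟩ := Set.mem_iUnion₂.1 hy
  exact hVO x hyx

section stalk

variable {X Y Q : Scheme.{u}} {f : X ⟶ Y} [IsSeparated f] [LocallyOfFiniteType f]
  {Ω : Type u} [Field Ω] [IsSepClosed Ω] {η : Spec (CommRingCat.of Ω) ⟶ Y} {a : Q ⟶ X}
  {b : Q ⟶ Spec (CommRingCat.of Ω)} (h : IsPullback a b f η) (F : EtCoh.Ab X)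

include h in
theorem exists_Θs (τ : sect F (Over.mk a)) (hτ : ShriekFibre.PS F τ.1 b) :
    ∃ z, ShriekFibre.Θs f h.w F z = τ.1 := by
  obtain ⟨C, hC, hzero⟩ := hτ
  have hK : IsCompact (a.base '' C) := by
    obtain ⟨hc, hp⟩ := id hC
    let i := (ZarCoh.ProperOver.red ⟨C, hc⟩).subschemeι
    have : IsProper (i ≫ b) := hp
    have : CompactSpace _ := QuasiCompact.compactSpace_of_compactSpace (i ≫ b)
    rw [← (show Set.range i.base = C from ZarCoh.ProperOver.range_red ⟨C, hc⟩)]
    exact (isCompact_range i.continuous).image a.continuous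
  obtain ⟨Y₀, hY₀, hyY, -⟩ := exists_isAffineOpen_mem_and_subset (X := Y) (U := ⊤)
    (x := η.base default) trivial
  obtain ⟨U, hU, hKU, hUf⟩ := exists_compact_open hK (f ⁻¹ᵁ Y₀) (by
    rintro _ ⟨z, -, rfl⟩
    change f.base (a.base z) ∈ Y₀
    rw [show f.base (a.base z) = η.base (b.base z) from congr($(h.w) z),
      Subsingleton.elim (b.base z) default]
    exact hyY)
  have : IsAffine (Y₀ : Scheme.{u}) := hY₀
  have : CompactSpace (U : Scheme.{u}) := isCompact_iff_compactSpace.mp hU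
  let f₀ := f.resLE Y₀ U hUf
  have hf₀ : f₀ ≫ Y₀.ι = U.ι ≫ f := Scheme.Hom.resLE_comp_ι _ _
  have : IsSeparated (f₀ ≫ Y₀.ι) := by rw [hf₀]; infer_instance
  have : IsSeparated f₀ := IsSeparated.of_comp f₀ Y₀.ι
  have : LocallyOfFiniteType (f₀ ≫ Y₀.ι) := by rw [hf₀]; infer_instance
  have : LocallyOfFiniteType f₀ := locallyOfFiniteType_of_comp f₀ Y₀.ι
  have : QuasiCompact f₀ := quasiCompact_of_compactSpace f₀
  obtain ⟨Xc, j, fb, hj, -, hfb, hjfb⟩ := Groth.Agent.S0384.result f₀
  have hη : Set.range η.base ⊆ Set.range Y₀.ι.base := by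
    rintro _ ⟨y, rfl⟩
    rw [Subsingleton.elim y default, Scheme.Opens.range_ι]
    exact hyY
  exact ShriekExtend.exists_Θs h F U.ι j fb Y₀.ι
    (η₀ := IsOpenImmersion.lift Y₀.ι η hη) (IsOpenImmersion.lift_fac _ _ hη) τ C hC hzero
    (fun z hz => by rw [Scheme.Opens.range_ι]; exact hKU ⟨z, hz, rfl⟩)
    (by rw [reassoc_of% hjfb, hf₀])

/-- Sections with proper support on the fibre, as a subgroup. -/
def psGroup (_h : IsPullback a b f η) : AddSubgroup (Germs F (Over.mk a)) :=
  (ShriekFibre.Θs f _h.w F).range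

theorem mem_psGroup_iff (τ : Germs F (Over.mk a)) :
    τ ∈ psGroup F h ↔ IsLocRep F τ ∧ ShriekFibre.PS F τ b := by
  constructor
  · rintro ⟨z, rfl⟩
    exact ⟨ShriekFibre.isLocRep_Θs f h.w F z, ShriekFibre.ps_Θs h F z⟩
  · rintro ⟨h₁, h₂⟩
    exact exists_Θs h F ⟨τ, h₁⟩ h₂

end stalk

/-- Sections with compact support are those with proper support. -/
theorem mem_H0c_iff {k : Type u} [Field k] {X : Scheme.{u}} (p : X ⟶ Spec (CommRingCat.of k))
    [LocallyOfFiniteType p] (F : EtCoh.Ab X) (s : EtCoh.sect F (EtCoh.top X)) :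
    s ∈ H0c p F ↔ ClSub.IsProperOver p (sectSupp F (EtCoh.top X) s) := by
  let g : (EtCoh.top X).left ⟶ Spec (CommRingCat.of k) := p
  have : LocallyOfFiniteType g := ‹LocallyOfFiniteType p›
  change s ∈ H0c p F ↔ ClSub.IsProperOver g (sectSupp F (EtCoh.top X) s)
  constructor
  · intro hs
    induction hs using AddSubgroup.closure_induction with
    | mem x hx => exact (EtShriek50.Pre.hasProperSupport_iff g _).1 hx
    | zero =>
      rw [EtShriek50.Supp.sectSupp_zero]
      exact ZarCoh.ProperOver.isProperOver_of_subset_iUnion g (fun i : Empty => i.elim)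
        (fun i => i.elim) isClosed_empty (Set.empty_subset _)
    | add a b _ _ ha hb =>
      refine ZarCoh.ProperOver.isProperOver_of_subset_iUnion g
        (fun i : Bool => bif i then sectSupp F _ a else sectSupp F _ b)
        (fun i => by cases i <;> assumption) (EtShriek50.Supp.isClosed_sectSupp F _ _) fun x hx => ?_
      rcases EtShriek50.Supp.sectSupp_add a b hx with h | h
      · exact Set.mem_iUnion.2 ⟨true, h⟩
      · exact Set.mem_iUnion.2 ⟨false, h⟩
    | neg a _ ha => rwa [EtShriek50.Supp.sectSupp_neg]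
  · exact fun hs => AddSubgroup.subset_closure ((EtShriek50.Pre.hasProperSupport_iff g _).2 hs)

/-- The stalk of the direct image with proper support. -/
theorem nonempty_H0c {X Y : Scheme.{u}} (f : X ⟶ Y) [IsSeparated f] [LocallyOfFiniteType f]
    (F : EtCoh.Ab X) {Ω : Type u} [Field Ω] [IsSepClosed Ω] (η : Spec (CommRingCat.of Ω) ⟶ Y) :
    Nonempty ((EtCoh.stalk η).obj ((lowerShriek f).obj F) ≅
      AddCommGrpCat.of (H0c (pullback.snd f η) ((EtCoh.pull (pullback.fst f η)).obj F))) := by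
  let T := Over.mk (pullback.fst f η)
  have h := IsPullback.of_hasPullback f η
  have key : ∀ t : Compare.Gam F T,
      t ∈ H0c (pullback.snd f η) ((EtCoh.pull (pullback.fst f η)).obj F) ↔
        ShriekFibre.PS F (Compare.toGerms F T t) (pullback.snd f η) := by
    intro t
    rw [mem_H0c_iff]
    constructor
    · intro ht
      refine ⟨_, ht, fun x hx => ?_⟩
      change (Compare.stkEquiv F T x).symm (Compare.germAt F T x t) = 0
      rw [AddEquiv.map_eq_zero_iff]
      exact (EtShriek50.Supp.germ_eq_zero_iff (Compare.topPt T x.ξ) t).2 hx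
    · rintro ⟨C, hC, hz⟩
      refine ZarCoh.ProperOver.isProperOver_of_subset _ hC
        (EtShriek50.Supp.isClosed_sectSupp _ _ t) ?_
      refine EtShriek50.Supp.sectSupp_le_of_germ t fun x hx p hp => ?_
      let ξ : Spec (CommRingCat.of _) ⟶ pullback f η :=
        Push.algPoint (pullback f η) ((EtCoh.top (pullback f η)).hom.base x)
      rw [Compare.eq_topPt T p]
      have e : (Compare.stkEquiv F T ⟨_, ξ ≫ T.hom, ξ, rfl⟩).symm
          (Compare.germAt F T ⟨_, ξ ≫ T.hom, ξ, rfl⟩ t) = 0 :=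
        hz ⟨_, ξ ≫ T.hom, ξ, rfl⟩ (by
          change ξ.base default ∉ C
          rw [Push.algPoint_apply]
          exact hx)
      exact (AddEquiv.map_eq_zero_iff _).1 e
  let Φ : Stk (EtShriek50.Pre.sh f F) η →+ Compare.Gam F T :=
    (Compare.equiv F T).symm.toAddMonoidHom.comp
      ((ShriekFibre.Θs f h.w F).codRestrict _ (ShriekFibre.isLocRep_Θs f h.w F))
  have hΦ : ∀ z, Compare.toGerms F T (Φ z) = ShriekFibre.Θs f h.w F z := fun z =>
    congrArg Subtype.val ((Compare.equiv F T).apply_symm_apply _)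
  have hmem : ∀ z, Φ z ∈ H0c (pullback.snd f η) ((EtCoh.pull (pullback.fst f η)).obj F) :=
    fun z => (key _).2 (by rw [hΦ]; exact ShriekFibre.ps_Θs h F z)
  have hbij : Function.Bijective (Φ.codRestrict _ hmem) := by
    refine ⟨fun z z' e => ShriekFibre.injective_Θs h F ?_, fun t => ?_⟩
    · rw [← hΦ, ← hΦ]
      exact congrArg _ (congrArg Subtype.val e)
    · obtain ⟨z, hz⟩ := exists_Θs h F ⟨_, Compare.isLocRep_toGerms F T t.1⟩ ((key _).1 t.2)
      exact ⟨z, Subtype.ext (Compare.toGerms_injective F T ((hΦ z).trans hz))⟩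
  exact ⟨(EtCoh.stalk η).mapIso ((EtShriek50.Pre.lowerShriekIso f).app F) ≪≫
    (AddEquiv.ofBijective _ hbij).toAddCommGrpIso⟩

section bc

variable {X Y X' Y' : Scheme.{u}} {f : X ⟶ Y} {g : Y' ⟶ Y} {f' : X' ⟶ Y'} {g' : X' ⟶ X}
  [IsSeparated f] [LocallyOfFiniteType f] [LocallyOfFiniteType f']
  (sq : IsPullback g' f' f g) (F : EtCoh.Ab X)

/-- The transformation on direct images. -/
abbrev pushMap : (EtCoh.push f).obj F ⟶ (EtCoh.push g).obj ((EtCoh.push f').obj ((EtCoh.pull g').obj F)) :=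
  (EtCoh.push f).map ((EtCoh.pullPushAdj g').unit.app F) ≫ (EtCoh.pushComp f g').hom.app _ ≫
    (EtCoh.pushCongr sq.w).hom.app _ ≫ (EtCoh.pushComp g f').inv.app _

theorem mem_shriek (V : Y.Etale) (s : EtCoh.sect F ((EtCoh.bc f).obj V))
    (hs : s ∈ shriekSubgroup f F V) :
    (pushMap sq F).hom.app (op V) s ∈
      shriekSubgroup f' ((EtCoh.pull g').obj F) ((EtCoh.bc g).obj V) := by
  obtain ⟨cc, hc⟩ := BC.exists_cmp sq.w F V
  have e : (pushMap sq F).hom.app (op V) s = ((EtCoh.pull g').obj F).obj.map cc.hom.op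
      (HensClosed.unitAt g' F ((EtCoh.bc f).obj V) s) := ConcreteCategory.congr_hom hc s
  rw [e, EtShriek50.Pre.mem_iff']
  let M' := (EtCoh.bc f').obj ((EtCoh.bc g).obj V)
  let m : M'.left ⟶ ((EtCoh.bc f).obj V).left :=
    cc.hom.left ≫ pullback.fst ((EtCoh.bc f).obj V).hom g'
  have hm₁ : m ≫ prV f V = prV f' ((EtCoh.bc g).obj V) ≫ pullback.fst V.hom g :=
    (Category.assoc _ _ _).trans cc.fst_fst
  have hm₂ : m ≫ pullback.snd V.hom f = pullback.snd ((EtCoh.bc g).obj V).hom f' ≫ g' := by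
    refine (Category.assoc _ _ _).trans ?_
    refine (cc.hom.left ≫= pullback.condition (f := ((EtCoh.bc f).obj V).hom) (g := g')).trans ?_
    exact (Category.assoc _ _ _).symm.trans (congrArg (· ≫ g') (Over.w cc.hom.hom))
  have hpb : IsPullback m (prV f' ((EtCoh.bc g).obj V)) (prV f V) (pullback.fst V.hom g) := by
    refine IsPullback.of_right ?_ hm₁ (IsPullback.of_hasPullback V.hom f).flip
    rw [hm₂, pullback.condition]
    exact (IsPullback.of_hasPullback _ _).flip.paste_horiz sq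
  have hprop := ZarCoh.ProperOver.isProperOver_preimage (prV f V) m
    (prV f' ((EtCoh.bc g).obj V)) ((EtShriek50.Pre.mem_iff' f F V s).1 hs) fun i hi =>
      MorphismProperty.of_isPullback ((IsPullback.of_hasPullback m i).flip.paste_vert hpb) hi
  refine ZarCoh.ProperOver.isProperOver_of_subset _ hprop
    (EtShriek50.Supp.isClosed_sectSupp _ _ _) ?_
  rw [EtShriek50.Supp.sectSupp_map]
  intro x hx
  by_contra hn
  have hn' : (pullback.fst ((EtCoh.bc f).obj V).hom g').base (cc.hom.left.base x) ∈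
      agree F ((EtCoh.bc f).obj V) s 0 := by
    rw [← EtShriek50.Supp.compl_sectSupp]
    exact hn
  obtain ⟨W, o, ho, w, hw⟩ := hn'
  obtain ⟨x', hx'1, hx'2⟩ := Scheme.exists_preimage_of_isPullback (EtCoh.isPullback_bc_map g' o)
    (cc.hom.left.base x) w hw.symm
  refine hx ((EtCoh.bc g').obj W) ((EtCoh.bc g').map o) ⟨x', hx'1⟩ ?_
  rw [← HensClosed.unitAt_map, ho, map_zero]
  exact map_zero (((EtCoh.pullPushAdj g').unit.app F).hom.app (op W)).hom

/-- The comparison upstairs. -/
def φ : EtShriek50.Pre.sh f F ⟶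
    (EtCoh.push g).obj (EtShriek50.Pre.sh f' ((EtCoh.pull g').obj F)) :=
  ⟨{ app := fun V => AddCommGrpCat.ofHom
        ((((pushMap sq F).hom.app V).hom.comp (shriekSubgroup f F V.unop).subtype).codRestrict
          (shriekSubgroup f' ((EtCoh.pull g').obj F) ((EtCoh.bc g).obj V.unop))
          (fun s => mem_shriek sq F V.unop s.1 s.2))
     naturality := fun V V' o => by
        ext s
        exact Subtype.ext (NatTrans.naturality_apply (pushMap sq F).hom o s.1) }⟩

/-- The comparison. -/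
def bcMap : (EtCoh.pull g).obj (EtShriek50.Pre.sh f F) ⟶
    EtShriek50.Pre.sh f' ((EtCoh.pull g').obj F) :=
  ((EtCoh.pullPushAdj g).homEquiv _ _).symm (φ sq F)

theorem stalk_symm {G : EtCoh.Ab Y} {H : EtCoh.Ab Y'} (v : G ⟶ (EtCoh.push g).obj H)
    {Ω : Type u} [Field Ω] [IsSepClosed Ω] (η : Spec (CommRingCat.of Ω) ⟶ Y') (V : Y.Etale)
    (p : (Scheme.pointSmallEtale (η ≫ g)).fiber.obj V) (s : EtCoh.sect G V) :
    (Scheme.pointSmallEtale η).sheafFiber.map (((EtCoh.pullPushAdj g).homEquiv G H).symm v)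
        (germUnit g G rfl (germ G (η ≫ g) V p s)) =
      germ H η ((EtCoh.bc g).obj V) (liftPt g rfl V p) (v.hom.app (op V) s) := by
  refine (congrArg _ (germUnit_germ g G rfl V p s)).trans ?_
  refine ((Scheme.pointSmallEtale η).toPresheafFiber_naturality_apply
    (((EtCoh.pullPushAdj g).homEquiv G H).symm v).hom ((EtCoh.bc g).obj V) (liftPt g rfl V p) _).trans ?_
  refine congrArg (germ H η _ (liftPt g rfl V p)) ?_
  have h := ((EtCoh.pullPushAdj g).homEquiv_unit _ _ (((EtCoh.pullPushAdj g).homEquiv G H).symm v)).symm.trans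
    (Equiv.apply_symm_apply _ _)
  exact ConcreteCategory.congr_hom (congrArg (fun φ => φ.hom.app (op V)) h) s

theorem bijective_stalk {Ω : Type u} [Field Ω] [IsSepClosed Ω]
    (η : Spec (CommRingCat.of Ω) ⟶ Y') :
    Function.Bijective ((Scheme.pointSmallEtale η).sheafFiber.map (bcMap sq F)) := by
  let a' := pullback.fst f' η
  let b := pullback.snd f' η
  have h' : IsPullback a' b f' η := IsPullback.of_hasPullback f' η
  have h : IsPullback (a' ≫ g') b f (η ≫ g) := h'.paste_horiz sq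
  have : IsSeparated f' := MorphismProperty.of_isPullback (P := @IsSeparated) sq ‹_›
  let M : Stk (EtShriek50.Pre.sh f F) (η ≫ g) → _ := fun z =>
    (Scheme.pointSmallEtale η).sheafFiber.map (bcMap sq F)
      (germUnit g (EtShriek50.Pre.sh f F) rfl z)
  suffices hM : Function.Bijective M from
    (Function.Bijective.of_comp_iff _ (bijective_germUnit g _ rfl)).1 hM
  have key : ∀ z, ShriekFibre.Θs f' h'.w ((EtCoh.pull g').obj F) (M z) =
      Extend.ofF F g' a' (ShriekFibre.Θs f h.w F z) := by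
    intro z
    obtain ⟨V, p, s, rfl⟩ := exists_germ _ z
    have e : ShriekFibre.incl f' ((EtCoh.pull g').obj F) (M (germ _ (η ≫ g) V p s)) =
        (Scheme.pointSmallEtale η).sheafFiber.map (EtCoh.baseChange0 f g f' g' sq.w F)
          (germUnit g ((EtCoh.push f).obj F) rfl (germ ((EtCoh.push f).obj F) (η ≫ g) V p s.1)) := by
      have e₁ : M (germ _ (η ≫ g) V p s) = _ := stalk_symm (φ sq F) η V p s
      rw [e₁, ShriekFibre.incl_germ]
      exact (stalk_symm (pushMap sq F) η V p s.1).symm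
    have e₂ := congrArg (Stalk.Θ f' h'.w ((EtCoh.pull g').obj F)) e
    refine e₂.trans ((BC.Θ_bc sq.w F h'.w h.w _).trans ?_)
    refine congrArg (Extend.ofF F g' a') ?_
    change _ = Stalk.Θ f h.w F (ShriekFibre.incl f F _)
    rw [ShriekFibre.incl_germ]
  constructor
  · intro z z' e
    refine ShriekFibre.injective_Θs h F (funext fun x => ?_)
    obtain ⟨Ω', η', ξ, hx⟩ := x
    change ξ ≫ a' ≫ g' = η' at hx
    have hx' : (ξ ≫ a') ≫ g' = η' := (Category.assoc _ _ _).trans hx
    subst hx'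
    have e' := congrFun ((key z).symm.trans ((congrArg (ShriekFibre.Θs f' h'.w
      ((EtCoh.pull g').obj F)) e).trans (key z'))) ⟨Ω', ξ ≫ a', ξ, rfl⟩
    exact (bijective_germUnit g' F rfl).1 e'
  · intro w
    let τ' := ShriekFibre.Θs f' h'.w ((EtCoh.pull g').obj F) w
    obtain ⟨C, hC, hz⟩ := ShriekFibre.ps_Θs h' ((EtCoh.pull g').obj F) w
    obtain ⟨z, hz'⟩ := exists_Θs h F
      ⟨_, ToF.isLocRep_toF F g' a' (ShriekFibre.isLocRep_Θs f' h'.w _ w)⟩
      ⟨C, hC, fun x hx => by
        change (ToF.stkIso F g' _).symm _ = 0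
        rw [hz ⟨x.Ω, x.ξ ≫ a', x.ξ, rfl⟩ hx, map_zero]⟩
    refine ⟨z, ShriekFibre.injective_Θs h' _ ((key z).trans ?_)⟩
    rw [hz', ToF.ofF_toF]

theorem isIso_bcMap : IsIso (bcMap sq F) := by
  refine EtSite.Stalk.isIso_of_stalks _ fun y => ?_
  exact ⟨_, inferInstance, inferInstance, Push.algPoint Y' y, Push.algPoint_apply Y' y default,
    bijective_stalk sq F _⟩

include sq in
theorem nonempty_baseChange :
    Nonempty ((lowerShriek f').obj ((EtCoh.pull g').obj F) ≅
      (EtCoh.pull g).obj ((lowerShriek f).obj F)) :=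
  haveI := isIso_bcMap sq F
  ⟨(EtShriek50.Pre.lowerShriekIso f').app _ ≪≫ (asIso (bcMap sq F)).symm ≪≫
    (EtCoh.pull g).mapIso ((EtShriek50.Pre.lowerShriekIso f).app F).symm⟩

end bc

end Groth.Agent.Lib.PBC50.ShriekMain
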