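import Groth.Agent.Lib.PBC50.ShriekFibre
import Groth.Agent.Lib.EtShriek50.ExtZero

/-!
# Germs of a sheaf and of its extension by zero to a compactification
-/

set_option autoImplicit false
set_option linter.unusedSectionVars false

universe u

open CategoryTheory CategoryTheory.Limits AlgebraicGeometry Opposite

set_option backward.isDefEq.respectTransparency false

noncomputable section

namespace Groth.Agent.Lib.PBC50.ShriekTheta

open Groth.Agent.Lib.EtSite Groth.Agent.Lib.EtSite.Basic Groth.Agent.Lib.EtSite.PushStalk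
open Groth.Agent.Lib.EtGerm Groth.Agent.Lib.EtGerm.Basic
open EtShriek

variable {X U Xc : Scheme.{u}} (ι : U ⟶ X) [IsOpenImmersion ι] (j : U ⟶ Xc) [IsOpenImmersion j]
  (F : EtCoh.Ab X)

/-- The restriction. -/
abbrev FU : EtCoh.Ab U := (restrAlong ι).obj F

/-- The extension by zero. -/
abbrev G : EtCoh.Ab Xc := EtShriek50.Pre.sh j (FU ι F)

/-- The inclusion of the part of `W` over `U`. -/
def cW (W : X.Etale) : (compEtale ι).obj ((EtCoh.bc ι).obj W) ⟶ W :=
  (EtJ.Basic.compEtaleAdj ι).counit.app W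

theorem cW_left (W : X.Etale) : (cW ι W).left = pullback.fst W.hom ι := rfl

/-- Restrict, then extend by zero. -/
def α (W : X.Etale) :
    F.obj.obj (op W) ⟶ (G ι j F).obj.obj (op ((compEtale j).obj ((EtCoh.bc ι).obj W))) :=
  F.obj.map (cW ι W).op ≫ (EtShriek50.ExtZero.unit j (FU ι F)).hom.app (op ((EtCoh.bc ι).obj W))

theorem α_map {W W' : X.Etale} (g : W' ⟶ W) :
    F.obj.map g.op ≫ α ι j F W' =
      α ι j F W ≫ (G ι j F).obj.map ((compEtale j).map ((EtCoh.bc ι).map g)).op := by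
  have e1 : F.obj.map g.op ≫ F.obj.map (cW ι W').op =
      F.obj.map (cW ι W).op ≫ (FU ι F).obj.map ((EtCoh.bc ι).map g).op := by
    rw [← Functor.map_comp, ← op_comp]
    refine Eq.trans ?_ (F.obj.map_comp _ _)
    exact congrArg (fun m => F.obj.map m.op) ((EtJ.Basic.compEtaleAdj ι).counit.naturality g).symm
  have e2 := (EtShriek50.ExtZero.unit j (FU ι F)).hom.naturality ((EtCoh.bc ι).map g).op
  rw [α, α, ← Category.assoc, e1, Category.assoc, e2, Category.assoc]
  rfl

variable {Ω : Type u} [Field Ω] [IsSepClosed Ω] {ξU : Spec (CommRingCat.of Ω) ⟶ U}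
  {η₀ : Spec (CommRingCat.of Ω) ⟶ X} {η' : Spec (CommRingCat.of Ω) ⟶ Xc}

/-- The point of the extension over a point of `W`. -/
def ptC (h₀ : ξU ≫ ι = η₀) (h : ξU ≫ j = η') (W : X.Etale)
    (p : (Scheme.pointSmallEtale η₀).fiber.obj W) :
    (Scheme.pointSmallEtale η').fiber.obj ((compEtale j).obj ((EtCoh.bc ι).obj W)) :=
  mkFiber η' _ (pullback.lift (f := W.hom) (g := ι) (fiberHom p) ξU ((fiberHom_comp p).trans h₀.symm))
    ((Category.assoc _ _ _).symm.trans ((congrArg (· ≫ j) (pullback.lift_snd _ _ _)).trans h))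

/-- The map on stalks. -/
def θ (h₀ : ξU ≫ ι = η₀) (h : ξU ≫ j = η') : Stk F η₀ →+ Stk (G ι j F) η' :=
  ((Scheme.pointSmallEtale η₀).presheafFiberDesc (P := F.obj)
    (fun W p => α ι j F W ≫
      (Scheme.pointSmallEtale η').toPresheafFiber _ (ptC ι j h₀ h W p) (G ι j F).obj)
    (fun W W' g q => by
      rw [← Category.assoc, α_map, Category.assoc,
        GrothendieckTopology.Point.toPresheafFiber_w]
      congr 2
      refine Over.OverMorphism.ext ?_
      apply pullback.hom_ext
      · refine Eq.trans ?_ (pullback.lift_fst _ _ _).symm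
        refine (Category.assoc _ _ _).trans ((_ ≫= (EtCoh.isPullback_bc_map ι g).w).trans ?_)
        exact (Category.assoc _ _ _).symm.trans (congrArg (· ≫ g.left) (pullback.lift_fst _ _ _))
      · refine Eq.trans ?_ (pullback.lift_snd _ _ _).symm
        refine (Category.assoc _ _ _).trans ((_ ≫= Over.w ((EtCoh.bc ι).map g).hom).trans ?_)
        exact pullback.lift_snd _ _ _)).hom

theorem θ_germ (h₀ : ξU ≫ ι = η₀) (h : ξU ≫ j = η') (W : X.Etale)
    (p : (Scheme.pointSmallEtale η₀).fiber.obj W) (s : EtCoh.sect F W) :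
    θ ι j F h₀ h (germ F η₀ W p s) =
      germ (G ι j F) η' _ (ptC ι j h₀ h W p) (α ι j F W s) :=
  ConcreteCategory.congr_hom ((Scheme.pointSmallEtale η₀).toPresheafFiber_presheafFiberDesc
    (P := F.obj) (fun W p => α ι j F W ≫
      (Scheme.pointSmallEtale η').toPresheafFiber _ (ptC ι j h₀ h W p) (G ι j F).obj) _ W p) s

/-- Evaluation of the extension at a point of `U`. -/
def ev (h : ξU ≫ j = η') : Stk (G ι j F) η' →+ Stk (FU ι F) ξU :=
  ((germTo j AddCommGrpCat.{u + 1} h).app (FU ι F)).hom.comp (ShriekFibre.incl j (FU ι F))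

theorem ev_germ (h : ξU ≫ j = η') (V : Xc.Etale) (p : (Scheme.pointSmallEtale η').fiber.obj V)
    (s : EtCoh.sect (G ι j F) V) :
    ev ι j F h (germ (G ι j F) η' V p s) =
      germ (FU ι F) ξU ((EtCoh.bc j).obj V) (liftPt j h V p) s.1 := by
  refine (congrArg ((germTo j AddCommGrpCat.{u + 1} h).app (FU ι F))
    (ShriekFibre.incl_germ j (FU ι F) V p s)).trans ?_
  exact germTo_toPresheafFiber j h (FU ι F) V p s.1

theorem ev_injective (h : ξU ≫ j = η') : Function.Injective (ev ι j F h) := by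
  have hpb : IsPullback ξU (𝟙 (Spec (CommRingCat.of Ω))) j η' :=
    ⟨⟨h.trans (Category.id_comp _).symm⟩, ⟨PullbackCone.IsLimit.mk _ (fun s => s.snd)
      (fun s => (cancel_mono j).1 (((Category.assoc _ _ _).trans (s.snd ≫= h)).trans s.condition.symm))
      (fun s => Category.comp_id _)
      (fun s m _ hm => (Category.comp_id m).symm.trans hm)⟩⟩
  refine (injective_iff_map_eq_zero _).2 fun z hz => ?_
  obtain ⟨V, p, s, rfl⟩ := exists_germ _ z
  rw [ev_germ, EtShriek50.Supp.germ_eq_zero_iff] at hz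
  refine ShriekFibre.injective_Θs hpb (FU ι F) (Eq.trans ?_ (map_zero _).symm)
  funext x
  refine (ShriekFibre.Θs_eq_zero_iff j hpb.w (FU ι F) V p s x).2 ?_
  refine fun hmem => hz (Set.mem_of_eq_of_mem ?_ hmem)
  have hd : x.ξ.base default = (default : Spec (CommRingCat.of Ω)) :=
    @Subsingleton.elim (Spec (CommRingCat.of Ω)) _ _ _
  rw [hd]
  refine congrArg (fun m : Spec (CommRingCat.of Ω) ⟶ pullback V.hom j => m.base default) ?_
  apply pullback.hom_ext
  · rw [ShriekFibre.mPt, pullback.lift_fst, Category.id_comp]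
    exact pullback.lift_fst _ _ _
  · rw [ShriekFibre.mPt, pullback.lift_snd]
    exact pullback.lift_snd _ _ _

/-- The point of the part over `U`. -/
def ptU (h₀ : ξU ≫ ι = η₀) (W : X.Etale) (p : (Scheme.pointSmallEtale η₀).fiber.obj W) :
    (Scheme.pointSmallEtale ξU).fiber.obj ((EtCoh.bc ι).obj W) :=
  liftPt ι h₀ W p

theorem ev_θ_germ (h₀ : ξU ≫ ι = η₀) (h : ξU ≫ j = η') (W : X.Etale)
    (p : (Scheme.pointSmallEtale η₀).fiber.obj W) (s : EtCoh.sect F W) :
    ev ι j F h (θ ι j F h₀ h (germ F η₀ W p s)) =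
      germ (FU ι F) ξU ((EtCoh.bc ι).obj W) (ptU ι h₀ W p) (F.obj.map (cW ι W).op s) := by
  rw [θ_germ, ev_germ]
  let WU := (EtCoh.bc ι).obj W
  refine Eq.trans ?_ (congrArg (germ (FU ι F) ξU WU (ptU ι h₀ W p))
    (EtShriek50.ExtZero.map_ext j (FU ι F) WU (F.obj.map (cW ι W).op s)))
  refine Eq.trans ?_ (germ_map (FU ι F) ξU (EtShriek50.ExtZero.graph j WU) (ptU ι h₀ W p) _).symm
  refine congrArg (fun r => germ (FU ι F) ξU _ r (α ι j F W s).1) (Over.OverMorphism.ext ?_)
  apply pullback.hom_ext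
  · refine (pullback.lift_fst _ _ _).trans ?_
    refine Eq.trans ?_ ((Category.assoc _ _ _).trans
      (_ ≫= EtShriek50.ExtZero.graph_fst j WU)).symm
    exact (Category.comp_id _).symm
  · refine (pullback.lift_snd _ _ _).trans ?_
    refine Eq.trans ?_ ((Category.assoc _ _ _).trans
      (_ ≫= Over.w (EtShriek50.ExtZero.graph j WU).hom)).symm
    exact (pullback.lift_snd _ _ _).symm

theorem θ_injective (h₀ : ξU ≫ ι = η₀) (h : ξU ≫ j = η') :
    Function.Injective (θ ι j F h₀ h) := by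
  refine (injective_iff_map_eq_zero _).2 fun z hz => ?_
  obtain ⟨W, p, s, rfl⟩ := exists_germ _ z
  have e := (ev_θ_germ ι j F h₀ h W p s).symm.trans ((congrArg (ev ι j F h) hz).trans (map_zero _))
  obtain ⟨M, g, hg, m, hm⟩ := (germ_eq_iff (FU ι F) ξU _ _ _ 0).1 (e.trans (map_zero _).symm)
  rw [← map_zero (germ F η₀ W p), germ_eq_iff]
  refine ⟨(compEtale ι).obj M, (compEtale ι).map g ≫ cW ι W, ?_, m, ?_⟩
  · simp only [op_comp, Functor.map_comp, ConcreteCategory.comp_apply, map_zero]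
    exact hg.trans (map_zero _)
  · refine (congrArg (pullback.fst W.hom ι).base hm).trans ?_
    exact congrArg (fun q : Spec (CommRingCat.of Ω) ⟶ W.left => q.base default)
      (pullback.lift_fst _ _ _)

end Groth.Agent.Lib.PBC50.ShriekTheta
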